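import Cfsg.Agent.Lib.CyclicIso.Perfect
import Mathlib.GroupTheory.SemidirectProduct

/-!
# Composition of perfect isometries and the semidirect product with cyclic kernel
-/

set_option autoImplicit false
set_option linter.unusedSectionVars false
set_option linter.style.haveILetI false

namespace CfsgLib.CyclicIso

open Cfsg CfsgLib.Blocks CfsgLib.Characters CfsgLib.BrauerPairs
open scoped Classical ComplexConjugate

universe u v w

variable {p : ℕ} [hp : Fact p.Prime] {M : Ideal AlgInt} [M.IsMaximal]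

/-- The average of a class function as a sum over the classes. -/
theorem inv_card_sum_mem (hM : IsPModular p M) {F : Type w} [Group F] [Fintype F] {g : F → ℂ}
    (hg : IsClassFunction F g)
    (h : ∀ y : F, g y / (Nat.card (Subgroup.centralizer ({y} : Set F)) : ℂ) ∈ lRing hM) :
    (Nat.card F : ℂ)⁻¹ * ∑ y, g y ∈ lRing hM := by
  letI : Fintype (ConjClasses F) := Fintype.ofFinite _
  have hcard : ∀ y a : F, Nat.card (Subgroup.centralizer ({a * y * a⁻¹} : Set F)) =
      Nat.card (Subgroup.centralizer ({y} : Set F)) := fun y a => by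
    refine (Nat.card_congr ((MulAut.conj a).toEquiv.subtypeEquiv fun x => ?_)).symm
    simp [Subgroup.mem_centralizer_singleton_iff]
  have h1 := Contribution.sum_div_index
    (fun y : F => g y / (Nat.card (Subgroup.centralizer ({y} : Set F)) : ℂ))
    fun y a => by rw [hg, hcard]
  have h2 : (Nat.card F : ℂ)⁻¹ * ∑ y, g y = ∑ y : F,
      g y / (Nat.card (Subgroup.centralizer ({y} : Set F)) : ℂ) /
        ((Subgroup.centralizer ({y} : Set F)).index : ℂ) := by
    rw [Finset.mul_sum]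
    refine Finset.sum_congr rfl fun y _ => ?_
    rw [div_div, ← Nat.cast_mul, Subgroup.card_mul_index, inv_mul_eq_div]
  rw [h2, h1]
  exact (lRing hM).sum_mem fun c _ => h _

/-- Perfect isometries with a common source compose. -/
theorem isPerfectIsometry_comp (hM : IsPModular p M) {G : Type u} [Group G] [Fintype G]
    {H : Type v} [Group H] [Fintype H] {F : Type w} [Group F] [Fintype F]
    {B : Set (IrrCharacter G)} {c : Set (IrrCharacter H)}
    {I₁ : IrrCharacter F → IrrCharacter G} {ε₁ : IrrCharacter F → ℤ}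
    {I₂ : IrrCharacter F → IrrCharacter H} {ε₂ : IrrCharacter F → ℤ}
    (h₁ : IsPerfectIsometry p M (Set.univ : Set (IrrCharacter F)) B I₁ ε₁)
    (h₂ : IsPerfectIsometry p M (Set.univ : Set (IrrCharacter F)) c I₂ ε₂) :
    ∃ (I : IrrCharacter H → IrrCharacter G) (ε : IrrCharacter H → ℤ),
      IsPerfectIsometry p M c B I ε := by
  haveI : Nonempty (IrrCharacter F) := ⟨principalIrr F⟩
  set J : IrrCharacter H → IrrCharacter F := Function.invFunOn I₂ Set.univ with hJ
  have hleft : ∀ η, J (I₂ η) = η := fun η => h₂.1.injOn.leftInvOn_invFunOn (Set.mem_univ η)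
  have hright : ∀ χ ∈ c, I₂ (J χ) = χ := fun χ hχ => h₂.1.surjOn.rightInvOn_invFunOn hχ
  refine ⟨fun χ => I₁ (J χ), fun χ => ε₁ (J χ) * ε₂ (J χ),
    ⟨fun χ _ => h₁.1.mapsTo (Set.mem_univ _), fun a ha b hb hab => ?_, fun χ hχ => ?_⟩,
    fun χ _ => ?_, fun x z => ?_⟩
  · rw [← hright a ha, ← hright b hb, h₁.1.injOn (Set.mem_univ _) (Set.mem_univ _) hab]
  · obtain ⟨η, -, rfl⟩ := h₁.1.surjOn hχ
    exact ⟨I₂ η, h₂.1.mapsTo (Set.mem_univ _), by simp only [hleft]⟩
  · rcases h₁.2.1 (J χ) (Set.mem_univ _) with h | h <;>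
      rcases h₂.2.1 (J χ) (Set.mem_univ _) with h' | h' <;> simp [h, h']
  set μ₁ := signedBijectionKernel (Set.univ : Set (IrrCharacter F)) I₁ ε₁ with hμ₁
  set μ₂ := signedBijectionKernel (Set.univ : Set (IrrCharacter F)) I₂ ε₂ with hμ₂
  have hval₁ : ∀ y, μ₁ x y = ∑ η, (ε₁ η : ℂ) * (I₁ η : G → ℂ) x * (η : F → ℂ) y := fun y => by
    rw [hμ₁, signedBijectionKernel, finsum_mem_univ, finsum_eq_sum_of_fintype]
  have hval₂ : ∀ y, μ₂ z y = ∑ η, (ε₂ η : ℂ) * (I₂ η : H → ℂ) z * (η : F → ℂ) y := fun y => by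
    rw [hμ₂, signedBijectionKernel, finsum_mem_univ, finsum_eq_sum_of_fintype]
  have hker : signedBijectionKernel c (fun χ => I₁ (J χ)) (fun χ => ε₁ (J χ) * ε₂ (J χ)) x z =
      (Nat.card F : ℂ)⁻¹ * ∑ y, μ₁ x y * μ₂ z y⁻¹ := by
    have e1 : signedBijectionKernel c (fun χ => I₁ (J χ)) (fun χ => ε₁ (J χ) * ε₂ (J χ)) x z =
        ∑ η : IrrCharacter F, ((ε₁ η : ℂ) * (I₁ η : G → ℂ) x) *
          ((ε₂ η : ℂ) * (I₂ η : H → ℂ) z) := by
      rw [← finsum_eq_sum_of_fintype, ← finsum_mem_univ, signedBijectionKernel]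
      refine (finsum_mem_eq_of_bijOn I₂ h₂.1 fun η _ => ?_).symm
      simp only [hleft, Int.cast_mul]
      ring
    rw [e1]
    simp only [hval₁, hval₂, Finset.sum_mul_sum]
    rw [Finset.sum_comm, Finset.mul_sum]
    refine Finset.sum_congr rfl fun η _ => ?_
    rw [Finset.sum_comm, Finset.mul_sum, Finset.sum_eq_single η]
    · have h1 := classInner_irr_self η.2
      rw [classInner] at h1
      simp only [irr_apply_inv]
      rw [show ∑ y, (ε₁ η : ℂ) * (I₁ η : G → ℂ) x * (η : F → ℂ) y *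
          ((ε₂ η : ℂ) * (I₂ η : H → ℂ) z * conj ((η : F → ℂ) y)) =
          ((ε₁ η : ℂ) * (I₁ η : G → ℂ) x * ((ε₂ η : ℂ) * (I₂ η : H → ℂ) z)) *
            ∑ y, (η : F → ℂ) y * conj ((η : F → ℂ) y) by
        rw [Finset.mul_sum]; exact Finset.sum_congr rfl fun y _ => by ring,
        ]
      linear_combination (-((ε₂ η : ℂ) * ((ε₁ η : ℂ) * (I₁ η : G → ℂ) x * (I₂ η : H → ℂ) z))) * h1
    · intro η' _ hne
      have h1 := classInner_irr_ne η.2 η'.2 fun h => hne (Subtype.ext h.symm)
      rw [classInner] at h1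
      simp only [irr_apply_inv]
      rw [show ∑ y, (ε₁ η : ℂ) * (I₁ η : G → ℂ) x * (η : F → ℂ) y *
          ((ε₂ η' : ℂ) * (I₂ η' : H → ℂ) z * conj ((η' : F → ℂ) y)) =
          ((ε₁ η : ℂ) * (I₁ η : G → ℂ) x * ((ε₂ η' : ℂ) * (I₂ η' : H → ℂ) z)) *
            ∑ y, (η : F → ℂ) y * conj ((η' : F → ℂ) y) by
        rw [Finset.mul_sum]; exact Finset.sum_congr rfl fun y _ => by ring,
        ]
      linear_combination ((ε₂ η' : ℂ) * ((ε₁ η : ℂ) * (I₁ η : G → ℂ) x * (I₂ η' : H → ℂ) z)) * h1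
    · exact fun h => absurd (Finset.mem_univ _) h
  rw [hker]
  have hcl : IsClassFunction F fun y => μ₁ x y * μ₂ z y⁻¹ := fun a b => by
    simp only [hval₁, hval₂, irr_apply_inv]
    rw [Finset.sum_congr rfl fun η _ => by rw [irr_isClassFunction η a b]]
    congr 1
    exact Finset.sum_congr rfl fun η _ => by rw [irr_isClassFunction η a b]
  have hinv : ∀ y : F, Subgroup.centralizer ({y⁻¹} : Set F) = Subgroup.centralizer ({y} : Set F) :=
    Contribution.centralizer_singleton_inv
  refine ⟨?_, ?_, ?_⟩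
  · rw [div_eq_mul_inv, mul_assoc, Finset.sum_mul]
    refine inv_card_sum_mem hM (fun a b => congrArg (· * _) (hcl a b)) fun y => ?_
    have e2 := (h₂.2.2 z y⁻¹).2.1
    rw [hinv] at e2
    rw [show μ₁ x y * μ₂ z y⁻¹ * (Nat.card (Subgroup.centralizer ({x} : Set G)) : ℂ)⁻¹ /
        (Nat.card (Subgroup.centralizer ({y} : Set F)) : ℂ) =
      (μ₁ x y / (Nat.card (Subgroup.centralizer ({x} : Set G)) : ℂ)) *
        (μ₂ z y⁻¹ / (Nat.card (Subgroup.centralizer ({y} : Set F)) : ℂ)) by ring]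
    exact (lRing hM).mul_mem (h₁.2.2 x y).1 e2
  · rw [div_eq_mul_inv, mul_assoc, Finset.sum_mul]
    refine inv_card_sum_mem hM (fun a b => congrArg (· * _) (hcl a b)) fun y => ?_
    rw [show μ₁ x y * μ₂ z y⁻¹ * (Nat.card (Subgroup.centralizer ({z} : Set H)) : ℂ)⁻¹ /
        (Nat.card (Subgroup.centralizer ({y} : Set F)) : ℂ) =
      (μ₁ x y / (Nat.card (Subgroup.centralizer ({y} : Set F)) : ℂ)) *
        (μ₂ z y⁻¹ / (Nat.card (Subgroup.centralizer ({z} : Set H)) : ℂ)) by ring]
    exact (lRing hM).mul_mem (h₁.2.2 x y).2.1 (h₂.2.2 z y⁻¹).1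
  · by_cases hxz : IsPRegular p x ↔ IsPRegular p z
    · exact Or.inl hxz
    · refine Or.inr (mul_eq_zero_of_right _ (Finset.sum_eq_zero fun y _ => ?_))
      rcases (h₁.2.2 x y).2.2 with ha | ha
      · rcases (h₂.2.2 z y⁻¹).2.2 with hb | hb
        · exact absurd (ha.trans (Iff.symm (hb.trans (by simp [IsPRegular])))) hxz
        · exact mul_eq_zero_of_right _ hb
      · exact mul_eq_zero_of_left ha _

/-- The semidirect product of a cyclic `p`-group by a group of automorphisms. -/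
theorem exists_frob {A : Type u} [Group A] [Finite A] [IsCyclic A] (hA : IsPGroup p A)
    (R : Subgroup (MulAut A)) {e : ℕ} (hR : Nat.card R = e) (he : e ∣ p - 1) :
    Frob p (SemidirectProduct.inl (φ := R.subtype)).range e ∧
      Nat.card (SemidirectProduct.inl (φ := R.subtype)).range = Nat.card A := by
  set Q := (SemidirectProduct.inl (φ := R.subtype)).range with hQdef
  have hinj := SemidirectProduct.inl_injective (φ := R.subtype)
  have hcard : Nat.card Q = Nat.card A :=
    (Nat.card_congr (MonoidHom.ofInjective hinj).toEquiv).symm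
  have hcomm : ∀ a b : A, a * b = b * a := (IsMulCommutative.is_comm (M := A)).comm
  refine ⟨⟨?_, ?_, ?_, ?_, he⟩, hcard⟩
  · exact isCyclic_of_surjective (MonoidHom.ofInjective hinj).toMonoidHom
      (MonoidHom.ofInjective hinj).surjective
  · exact hA.of_surjective (MonoidHom.ofInjective hinj).toMonoidHom
      (MonoidHom.ofInjective hinj).surjective
  · refine le_antisymm (fun x hx => ?_) ?_
    · rw [hQdef, SemidirectProduct.range_inl_eq_ker_rightHom, MonoidHom.mem_ker]
      refine Subtype.ext (MulEquiv.ext fun a => ?_)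
      have h1 := congrArg SemidirectProduct.left (Subgroup.mem_centralizer_iff.1 hx _ ⟨a, rfl⟩)
      simp only [SemidirectProduct.mul_left, SemidirectProduct.left_inl, SemidirectProduct.right_inl,
        map_one, MulAut.one_apply] at h1
      rw [hcomm x.left] at h1
      exact (mul_right_cancel h1).symm
    · rintro x ⟨a, rfl⟩
      rw [Subgroup.mem_centralizer_iff]
      rintro _ ⟨b, rfl⟩
      rw [← map_mul, ← map_mul, hcomm]
  · have h1 := Q.card_mul_index
    rw [hcard, SemidirectProduct.card, hR] at h1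
    exact Nat.eq_of_mul_eq_mul_left Nat.card_pos h1

end CfsgLib.CyclicIso
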