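import Cfsg.Agent.Lib.Characters.Clifford
import Cfsg.Agent.Lib.Characters.FrobKernelChar
import Cfsg.Agent.Lib.Characters.Monomial
import Cfsg.Agent.Lib.Blocks.Homo949Dual
import Mathlib.GroupTheory.Sylow
import Mathlib.RingTheory.ZMod.UnitsCyclic
import Mathlib.GroupTheory.SpecificGroups.Cyclic
import Mathlib.NumberTheory.Basic

/-!
# The Frobenius group with cyclic kernel

A group with a cyclic self-centralising `p`-subgroup `Q` of index dividing `p - 1`: the characters
nontrivial on `Q` are induced from the nontrivial linear characters of `Q`, the others are linear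
and as many as the index.
-/

set_option autoImplicit false
set_option linter.unusedSectionVars false
set_option linter.style.haveILetI false

namespace CfsgLib.CyclicIso

open Cfsg CfsgLib.Characters CfsgLib.Blocks
open scoped Classical ComplexConjugate

universe v

section Aut

variable {A : Type*} [Group A] [Finite A] [IsCyclic A] {p : ℕ} [hp : Fact p.Prime]

/-- An automorphism of order prime to `p` of a cyclic `p`-group fixing a nontrivial element. -/
theorem aut_eq_one_of_fixed (hA : IsPGroup p A) (σ : MulAut A) (hσ : (orderOf σ).Coprime p)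
    {q : A} (hq : q ≠ 1) (hfix : σ q = q) : σ = 1 := by
  obtain ⟨a, ha⟩ := IsPGroup.iff_card.1 hA
  obtain ⟨r, hr⟩ := MonoidHom.map_cyclic σ.toMonoidHom
  have hr' : ∀ g : A, σ g = g ^ r := hr
  have hiter : ∀ (k : ℕ) (g : A), (σ ^ k) g = g ^ (r ^ k) := by
    intro k
    induction k with
    | zero => intro g; simp
    | succ k ih => intro g; rw [pow_succ', MulAut.mul_apply, ih, hr', ← zpow_mul, ← pow_succ]
  obtain ⟨k, hk⟩ := IsPGroup.iff_orderOf.1 hA q
  obtain ⟨j, rfl⟩ : ∃ j, k = j + 1 := Nat.exists_eq_succ_of_ne_zero fun h0 => hq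
    (orderOf_eq_one_iff.1 (by rw [hk, h0, pow_zero]))
  set z := q ^ p ^ j with hzdef
  have hz : orderOf z = p := by
    rw [hzdef, orderOf_pow' _ (pow_ne_zero _ hp.out.ne_zero), hk,
      Nat.gcd_eq_right (pow_dvd_pow p j.le_succ), pow_succ,
      Nat.mul_div_cancel_left _ (pow_pos hp.out.pos _)]
  have hzr : z ^ r = z := by rw [← hr', hzdef, map_pow, hfix]
  have hdvd : (p : ℤ) ∣ r - 1 := by
    rw [← hz, orderOf_dvd_iff_zpow_eq_one, zpow_sub, hzr, zpow_one, mul_inv_cancel]
  have hpow : σ ^ p ^ a = 1 := by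
    refine MulEquiv.ext fun g => ?_
    rw [hiter, MulAut.one_apply]
    obtain ⟨c, hc⟩ := dvd_sub_pow_of_dvd_sub hdvd a
    rw [one_pow] at hc
    have hg : g ^ ((p : ℤ) ^ a) = 1 := by
      have := pow_card_eq_one' (G := A) (x := g)
      rw [ha] at this
      exact_mod_cast this
    rw [show r ^ p ^ a = (p : ℤ) ^ a * ((p : ℤ) * c) + 1 by linear_combination hc,
      zpow_add, zpow_mul, hg, one_zpow, one_mul, zpow_one]
  exact orderOf_eq_one_iff.1 (Nat.eq_one_of_dvd_coprimes (hσ.pow_right a) dvd_rfl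
    (orderOf_dvd_of_pow_eq_one hpow))

/-- Two groups of automorphisms of a cyclic `p`-group of one order dividing `p - 1` are equal. -/
theorem autSubgroup_eq (hA : IsPGroup p A) {e : ℕ} (he : e ∣ p - 1) (H₁ H₂ : Subgroup (MulAut A))
    (h₁ : Nat.card H₁ = e) (h₂ : Nat.card H₂ = e) : H₁ = H₂ := by
  by_cases he1 : e = 1
  · subst he1
    rw [Subgroup.eq_bot_of_card_eq H₁ h₁, Subgroup.eq_bot_of_card_eq H₂ h₂]
  have hp2 : p ≠ 2 := fun h => he1 (by rw [h] at he; exact Nat.dvd_one.1 he)
  obtain ⟨a, ha⟩ := IsPGroup.iff_card.1 hA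
  haveI : IsCyclic (ZMod (Nat.card A))ˣ := by
    rw [ha]; exact ZMod.isCyclic_units_of_prime_pow p hp.out hp2 a
  haveI : IsCyclic (MulAut A) := isCyclic_of_surjective (IsCyclic.mulAutMulEquiv A).symm.toMonoidHom
    (IsCyclic.mulAutMulEquiv A).symm.surjective
  letI : Fintype (MulAut A) := Fintype.ofFinite _
  set S := Finset.univ.filter fun σ : MulAut A => σ ^ e = 1 with hS
  have he0 : 0 < e := by rw [← h₁]; exact Nat.card_pos
  have key : ∀ H : Subgroup (MulAut A), Nat.card H = e → (H : Set (MulAut A)) = ↑S := by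
    intro H hH
    refine Set.eq_of_subset_of_ncard_le (fun σ hσ => ?_) ?_ (Set.toFinite _)
    · have := pow_card_eq_one' (G := H) (x := ⟨σ, hσ⟩)
      rw [hH] at this
      simpa [hS] using congrArg Subtype.val this
    · rw [Set.ncard_coe_finset, ← Nat.card_coe_set_eq]
      exact (IsCyclic.card_pow_eq_one_le he0).trans hH.ge
  exact SetLike.coe_injective ((key H₁ h₁).trans (key H₂ h₂).symm)

end Aut

variable {F : Type v} [Group F]

/-- A cyclic self-centralising `p`-subgroup of index dividing `p - 1`. -/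
structure Frob (p : ℕ) (Q : Subgroup F) (e : ℕ) : Prop where
  cyc : IsCyclic Q
  pgroup : IsPGroup p Q
  cent : Subgroup.centralizer (Q : Set F) = Q
  index : Q.index = e
  dvd : e ∣ p - 1

variable {p : ℕ} [hp : Fact p.Prime] {Q : Subgroup F} {e : ℕ}

namespace Frob

variable [Finite F] (h : Frob p Q e)
include h

theorem e_pos : 0 < e := h.index ▸ Nat.pos_of_ne_zero Subgroup.index_ne_zero_of_finite

theorem lt : e < p := by
  have h1 := hp.out.two_le
  have h2 := Nat.le_of_dvd (by omega) h.dvd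
  omega

theorem not_dvd : ¬ p ∣ e := fun hd => absurd (Nat.le_of_dvd h.e_pos hd) (not_le.2 h.lt)

theorem comm (a b : Q) : a * b = b * a := by
  have := h.cyc
  exact (IsMulCommutative.is_comm (M := Q)).comm a b

theorem normal : Q.Normal := by
  obtain ⟨P, hP⟩ : ∃ P : Sylow p F, (P : Subgroup F) = Q :=
    ⟨h.pgroup.toSylow (by rw [h.index]; exact h.not_dvd), IsPGroup.toSylow_coe _ _⟩
  have h1 : Nat.card (Sylow p F) ≡ 1 [MOD p] := card_sylow_modEq_one p F
  have h2 : Nat.card (Sylow p F) ∣ e := by rw [← h.index, ← hP]; exact Sylow.card_dvd_index P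
  have h3 : Nat.card (Sylow p F) = 1 := by
    have hlt := lt_of_le_of_lt (Nat.le_of_dvd h.e_pos h2) h.lt
    rw [Nat.ModEq, Nat.mod_eq_of_lt hlt, Nat.mod_eq_of_lt hp.out.one_lt] at h1
    exact h1
  haveI : Subsingleton (Sylow p F) := (Nat.card_eq_one_iff_unique.1 h3).1
  exact hP ▸ Sylow.normal_of_subsingleton P

theorem card_range [Q.Normal] : Nat.card (MulAut.conjNormal : F →* MulAut Q).range = e := by
  rw [← Subgroup.index_ker, show (MulAut.conjNormal : F →* MulAut Q).ker = Q from ?_, h.index]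
  ext x
  conv_rhs => rw [← h.cent]
  rw [MonoidHom.mem_ker, Subgroup.mem_centralizer_iff]
  constructor
  · intro hx q hq
    have := congrArg Subtype.val (DFunLike.congr_fun hx ⟨q, hq⟩)
    rw [MulAut.conjNormal_apply] at this
    exact (mul_inv_eq_iff_eq_mul.1 this).symm
  · intro hx
    ext q
    rw [MulAut.conjNormal_apply]
    exact mul_inv_eq_iff_eq_mul.2 (hx q q.2).symm

/-- The elements outside `Q` act freely. -/
theorem free : ∀ x ∉ Q, ∀ k ∈ Q, k * x = x * k → k = 1 := by
  haveI := h.normal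
  haveI := h.cyc
  intro x hx k hk hkx
  by_contra hk1
  apply hx
  have hσ : (MulAut.conjNormal x : MulAut Q) = 1 := by
    refine aut_eq_one_of_fixed h.pgroup _ ?_ (q := ⟨k, hk⟩) (fun h0 => hk1 (congrArg Subtype.val h0))
      (Subtype.ext (by rw [MulAut.conjNormal_apply]; exact mul_inv_eq_iff_eq_mul.2 hkx.symm))
    have hd : orderOf (MulAut.conjNormal x : MulAut Q) ∣ e := by
      rw [← h.card_range]
      exact Subgroup.orderOf_dvd_natCard _ (MonoidHom.mem_range.2 ⟨x, rfl⟩)
    exact (Nat.Coprime.coprime_dvd_right hd (hp.out.coprime_iff_not_dvd.2 h.not_dvd)).symm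
  rw [← h.cent, Subgroup.mem_centralizer_iff]
  intro q hq
  have := congrArg Subtype.val (DFunLike.congr_fun hσ ⟨q, hq⟩)
  rw [MulAut.conjNormal_apply] at this
  exact (mul_inv_eq_iff_eq_mul.1 this).symm

/-- Outside `Q` the centraliser has order dividing the index. -/
theorem card_centralizer_dvd {x : F} (hx : x ∉ Q) :
    Nat.card (Subgroup.centralizer ({x} : Set F)) ∣ e := by
  haveI := h.normal
  rw [← h.index, Subgroup.index_eq_card]
  refine Subgroup.card_dvd_of_injective
    ((QuotientGroup.mk' Q).comp (Subgroup.centralizer ({x} : Set F)).subtype) ?_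
  rw [← MonoidHom.ker_eq_bot_iff, eq_bot_iff]
  intro c hc
  rw [MonoidHom.mem_ker, MonoidHom.comp_apply, QuotientGroup.mk'_apply, QuotientGroup.eq_one_iff]
    at hc
  exact Subtype.ext (h.free x hx c hc (Subgroup.mem_centralizer_singleton_iff.1 c.2))

theorem regular_of_notMem {x : F} (hx : x ∉ Q) : ¬ p ∣ orderOf x := fun hd =>
  h.not_dvd (hd.trans ((Subgroup.orderOf_dvd_natCard _
    (Subgroup.mem_centralizer_singleton_iff.2 rfl)).trans (h.card_centralizer_dvd hx)))

theorem dvd_orderOf {x : F} (hx : x ∈ Q) (hx1 : x ≠ 1) : p ∣ orderOf x := by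
  obtain ⟨k, hk⟩ := IsPGroup.iff_orderOf.1 h.pgroup ⟨x, hx⟩
  rw [Subgroup.orderOf_mk] at hk
  rw [hk]
  refine dvd_pow_self p fun h0 => hx1 (orderOf_eq_one_iff.1 ?_)
  rw [hk, h0, pow_zero]

theorem centralizer_eq {x : F} (hx : x ∈ Q) (hx1 : x ≠ 1) :
    Subgroup.centralizer ({x} : Set F) = Q := by
  refine le_antisymm (fun c hc => by_contra fun hcQ => hx1 (h.free c hcQ x hx
    (Subgroup.mem_centralizer_singleton_iff.1 hc).symm)) fun q hq => ?_
  exact Subgroup.mem_centralizer_singleton_iff.2 (congrArg Subtype.val (h.comm ⟨q, hq⟩ ⟨x, hx⟩))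

end Frob

variable [Fintype F] (h : Frob p Q e)
include h

/-- A nontrivial linear character of `Q` is moved by the elements outside `Q`. -/
theorem Frob.conjChar_eq_iff (hN : Q.Normal) {lam : Q →* ℂˣ} (hlam : lam ≠ 1) (x : F) :
    Clifford.conjChar hN (fun q => (lam q : ℂ)) x = (fun q => (lam q : ℂ)) ↔ x ∈ Q := by
  constructor
  · intro hfix
    by_contra hx
    apply hlam
    set f : Q → Q := fun q => ⟨x * q * x⁻¹, hN.conj_mem q q.2 x⟩ * q⁻¹ with hf
    have hinj : Function.Injective f := by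
      intro a b hab
      have hab' : x * (a : F) * x⁻¹ * (a : F)⁻¹ = x * (b : F) * x⁻¹ * (b : F)⁻¹ := by
        simpa [hf] using congrArg Subtype.val hab
      have hc : ((a : F)⁻¹ * b : F) * x = x * ((a : F)⁻¹ * b) := by
        have hac : (a : F)⁻¹ * b = b * (a : F)⁻¹ := congrArg Subtype.val (h.comm a⁻¹ b)
        have h1 : x * ((a : F)⁻¹ * b) * x⁻¹ = (a : F)⁻¹ * b := by
          calc x * ((a : F)⁻¹ * b) * x⁻¹ =
              (x * (a : F) * x⁻¹)⁻¹ * (x * (b : F) * x⁻¹ * (b : F)⁻¹) * b := by group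
            _ = (a : F)⁻¹ * b := by rw [← hab']; group
        calc ((a : F)⁻¹ * b : F) * x = x * ((a : F)⁻¹ * b) * x⁻¹ * x := by rw [h1]
          _ = _ := by group
      exact Subtype.ext (inv_mul_eq_one.1
        (h.free x hx _ (Q.mul_mem (Q.inv_mem a.2) b.2) hc))
    refine MonoidHom.ext fun q => ?_
    obtain ⟨r, rfl⟩ := Finite.surjective_of_injective hinj q
    have h2 : (lam (⟨x * r * x⁻¹, hN.conj_mem r r.2 x⟩) : ℂ) = (lam r : ℂ) := congrFun hfix r
    rw [hf, map_mul, map_inv, Units.ext h2, mul_inv_cancel, MonoidHom.one_apply]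
  · intro hx
    funext q
    refine congrArg (fun r : Q => (lam r : ℂ)) (Subtype.ext ?_)
    show x * (q : F) * x⁻¹ = q
    rw [show x * (q : F) = q * x from congrArg Subtype.val (h.comm ⟨x, hx⟩ q), mul_inv_cancel_right]

theorem Frob.isIrr_ind {lam : Q →* ℂˣ} (hlam : lam ≠ 1) :
    IsIrrCharacter F (indFun Q fun q => (lam q : ℂ)) := by
  have hN := h.normal
  have hirr := isIrrCharacter_of_hom lam
  refine Clifford.isIrr_of_norm_one
    (Induction.isCharacter_indFun Q (isCharacter_of_irr hirr)) ?_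
  rw [Clifford.classInner_indFun_indFun hN (isClassFunction_of_isCharacter (isCharacter_of_irr hirr))]
  have hterm : ∀ x : F, classInner (fun q => (lam q : ℂ))
      (Clifford.conjChar hN (fun q => (lam q : ℂ)) x) = if x ∈ Q then 1 else 0 := by
    intro x
    split_ifs with hx
    · rw [(h.conjChar_eq_iff hN hlam x).2 hx]; exact classInner_irr_self hirr
    · exact classInner_irr_ne hirr (Clifford.isIrrCharacter_conjChar hN hirr x)
        fun h' => hx ((h.conjChar_eq_iff hN hlam x).1 h'.symm)
  rw [Finset.sum_congr rfl fun x _ => hterm x, Finset.sum_boole,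
    show ((Finset.univ.filter fun x : F => x ∈ Q).card) = Nat.card Q by
      rw [Nat.card_eq_fintype_card, ← Fintype.card_subtype]]
  exact inv_mul_cancel₀ (Nat.cast_ne_zero.mpr Nat.card_pos.ne')

/-- The character induced from a nontrivial linear character. -/
noncomputable def Frob.indIrr {lam : Q →* ℂˣ} (hlam : lam ≠ 1) : IrrCharacter F :=
  ⟨_, h.isIrr_ind hlam⟩

theorem Frob.relevant_indIrr {lam : Q →* ℂˣ} (hlam : lam ≠ 1) :
    FrobKernelChar.Relevant Q (h.indIrr hlam : F → ℂ) := by
  by_contra hn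
  have hirr := isIrrCharacter_of_hom lam
  have h1 := classInner_irr_self (h.indIrr hlam).2
  rw [show (h.indIrr hlam : F → ℂ) = indFun Q fun q => (lam q : ℂ) from rfl,
    Induction.classInner_indFun_right _ _
      (isClassFunction_of_isCharacter (isCharacter_of_irr (h.isIrr_ind hlam))),
    show (fun q : Q => indFun Q (fun q => (lam q : ℂ)) q) = fun q : Q =>
      (h.indIrr hlam : F → ℂ) 1 * 1 from funext fun q => by
        rw [mul_one]; exact FrobKernelChar.eq_of_not_relevant hn q.2] at h1
  rw [show classInner (fun _ : Q => (h.indIrr hlam : F → ℂ) 1 * 1) (fun q => (lam q : ℂ)) =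
      (h.indIrr hlam : F → ℂ) 1 * classInner (fun _ : Q => (1 : ℂ)) (fun q => (lam q : ℂ)) from
      classInner_smul_left _ (fun _ : Q => (1 : ℂ)) _,
    classInner_irr_ne isIrrCharacter_one hirr fun h0 => hlam (MonoidHom.ext fun q =>
      Units.ext (congrFun h0 q).symm), mul_zero] at h1
  exact zero_ne_one h1

/-- A character nontrivial on `Q` is not induced from the trivial one. -/
theorem Frob.ne_ind_one {χ : IrrCharacter F} (hχ : FrobKernelChar.Relevant Q (χ : F → ℂ)) :
    (χ : F → ℂ) ≠ indFun Q (fun q => ((1 : Q →* ℂˣ) q : ℂ)) := by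
  haveI := h.normal
  intro he
  have hs := FrobKernelChar.sum_eq_zero χ.2 hχ
  have h1 := classInner_irr_self χ.2
  nth_rewrite 2 [he] at h1
  rw [Induction.classInner_indFun_right _ _
    (isClassFunction_of_isCharacter (isCharacter_of_irr χ.2))] at h1
  simp [classInner, hs] at h1

/-- The coefficient of a linear character in a character nontrivial on `Q`. -/
theorem Frob.classInner_res {χ : IrrCharacter F} (hχ : FrobKernelChar.Relevant Q (χ : F → ℂ))
    (lam : Q →* ℂˣ) :
    classInner (fun q : Q => (χ : F → ℂ) q) (fun q => (lam q : ℂ)) =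
      if (χ : F → ℂ) = indFun Q (fun q => (lam q : ℂ)) then 1 else 0 := by
  haveI := h.normal
  by_cases hlam : lam = 1
  · subst hlam
    have h0 : classInner (fun q : Q => (χ : F → ℂ) q) (fun q => ((1 : Q →* ℂˣ) q : ℂ)) = 0 := by
      have hs := FrobKernelChar.sum_eq_zero χ.2 hχ
      simp [classInner, hs]
    rw [h0, if_neg (h.ne_ind_one hχ)]
  · rw [← Induction.classInner_indFun_right _ _
      (isClassFunction_of_isCharacter (isCharacter_of_irr χ.2))]
    by_cases he : (χ : F → ℂ) = indFun Q (fun q => (lam q : ℂ))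
    · rw [if_pos he, ← he, classInner_irr_self χ.2]
    · rw [if_neg he, classInner_irr_ne χ.2 (h.isIrr_ind hlam) he]

/-- The restriction to `Q` of a character nontrivial on it. -/
theorem Frob.apply_eq_sum [Fintype (Q →* ℂˣ)] {χ : IrrCharacter F}
    (hχ : FrobKernelChar.Relevant Q (χ : F → ℂ)) (y : Q) :
    (χ : F → ℂ) y = ∑ lam ∈ Finset.univ.filter
      (fun lam : Q →* ℂˣ => (χ : F → ℂ) = indFun Q (fun q => (lam q : ℂ))), (lam y : ℂ) := by
  rw [Finset.sum_filter]
  have h1 := Homo949.eq_sum_coef h.comm (fun q : Q => (χ : F → ℂ) q) y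
  have hn : (Nat.card Q : ℂ) ≠ 0 := Nat.cast_ne_zero.2 Nat.card_pos.ne'
  refine mul_left_cancel₀ hn (h1.trans ?_)
  rw [Finset.mul_sum]
  refine Finset.sum_congr rfl fun lam _ => ?_
  have h2 := h.classInner_res hχ lam
  rw [classInner, inv_mul_eq_iff_eq_mul₀ hn] at h2
  rw [h2]
  split_ifs <;> simp

/-- A character nontrivial on `Q` is induced. -/
theorem Frob.exists_eq_ind {χ : IrrCharacter F} (hχ : FrobKernelChar.Relevant Q (χ : F → ℂ)) :
    ∃ (lam : Q →* ℂˣ) (hlam : lam ≠ 1), χ = h.indIrr hlam := by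
  haveI : Finite (Q →* ℂˣ) := Homo949.finite_dual h.comm
  letI : Fintype (Q →* ℂˣ) := Fintype.ofFinite _
  by_contra hn
  push Not at hn
  have h1 := h.apply_eq_sum hχ 1
  rw [Finset.sum_eq_zero] at h1
  · exact irr_one_ne_zero χ h1
  · intro lam hlam
    have he := (Finset.mem_filter.1 hlam).2
    by_cases hl : lam = 1
    · subst hl
      have h2 := h.classInner_res hχ 1
      rw [if_pos he] at h2
      have hs := FrobKernelChar.sum_eq_zero (hK := h.normal) χ.2 hχ
      simp [classInner, hs] at h2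
    · exact absurd (Subtype.ext he) (hn lam hl)

/-- Equal induced characters come from conjugate linear characters. -/
theorem Frob.exists_conj_of_ind_eq {lam mu : Q →* ℂˣ} (hlam : lam ≠ 1) (hmu : mu ≠ 1)
    (he : h.indIrr hlam = h.indIrr hmu) :
    ∃ x : F, ∀ q q' : Q, (q' : F) = x * q * x⁻¹ → mu q' = lam q := by
  have hN := h.normal
  have h1 := classInner_irr_self (h.indIrr hlam).2
  conv at h1 => lhs; arg 2; rw [he]
  rw [show (h.indIrr hlam : F → ℂ) = indFun Q fun q => (lam q : ℂ) from rfl,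
    show (h.indIrr hmu : F → ℂ) = indFun Q fun q => (mu q : ℂ) from rfl,
    Clifford.classInner_indFun_indFun hN (isClassFunction_of_isCharacter
      (isCharacter_of_irr (isIrrCharacter_of_hom lam)))] at h1
  obtain ⟨x, -, hx⟩ := Finset.exists_ne_zero_of_sum_ne_zero
    (right_ne_zero_of_mul (h1.trans_ne one_ne_zero))
  have hEq : (fun q => (lam q : ℂ)) = Clifford.conjChar hN (fun q => (mu q : ℂ)) x := by
    by_contra hne
    exact hx (classInner_irr_ne (isIrrCharacter_of_hom lam)
      (Clifford.isIrrCharacter_conjChar hN (isIrrCharacter_of_hom mu) x) hne)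
  exact ⟨x, fun q q' hq => Units.ext (((congrFun hEq q).trans
    (congrArg (fun r : Q => (mu r : ℂ)) (Subtype.ext hq.symm))).symm)⟩

/-- Conjugate linear characters induce the same character. -/
theorem Frob.ind_eq_of_conj {lam mu : Q →* ℂˣ} {x : F}
    (hx : ∀ q q' : Q, (q' : F) = x * q * x⁻¹ → mu q' = lam q) :
    indFun Q (fun q => (lam q : ℂ)) = indFun Q (fun q => (mu q : ℂ)) := by
  haveI := h.normal
  funext g
  rw [Induction.indFun_apply, Induction.indFun_apply]
  congr 1
  refine Fintype.sum_equiv (Equiv.mulRight x⁻¹) _ _ fun y => ?_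
  simp only [Equiv.coe_mulRight]
  have e : (y * x⁻¹)⁻¹ * g * (y * x⁻¹) = x * (y⁻¹ * g * y) * x⁻¹ := by group
  rw [e]
  by_cases hy : y⁻¹ * g * y ∈ Q
  · rw [Induction.extendByZero_mem Q _ hy,
      Induction.extendByZero_mem Q _ (h.normal.conj_mem _ hy x)]
    exact congrArg Units.val (hx ⟨_, hy⟩ ⟨_, h.normal.conj_mem _ hy x⟩ rfl).symm
  · rw [Induction.extendByZero_notMem Q _ hy, Induction.extendByZero_notMem Q]
    intro hc
    have := h.normal.conj_mem _ hc x⁻¹
    exact hy (by simpa [mul_assoc] using this)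

/-- A character trivial on `Q` is linear. -/
theorem Frob.degree_one {η : IrrCharacter F} (hη : ¬ FrobKernelChar.Relevant Q (η : F → ℂ)) :
    (η : F → ℂ) 1 = 1 := by
  haveI := h.normal
  haveI := h.cyc
  haveI : IsCyclic (MulAut.conjNormal : F →* MulAut Q).range := by
    by_cases hp2 : p = 2
    · have : e = 1 := Nat.dvd_one.1 (by have := h.dvd; rwa [hp2] at this)
      haveI : Subsingleton (MulAut.conjNormal : F →* MulAut Q).range :=
        (Nat.card_eq_one_iff_unique.1 (this ▸ h.card_range)).1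
      exact isCyclic_of_subsingleton
    · obtain ⟨a, ha⟩ := IsPGroup.iff_card.1 h.pgroup
      haveI : IsCyclic (ZMod (Nat.card Q))ˣ := by
        rw [ha]; exact ZMod.isCyclic_units_of_prime_pow p hp.out hp2 a
      haveI : IsCyclic (MulAut Q) := isCyclic_of_surjective
        (IsCyclic.mulAutMulEquiv Q).symm.toMonoidHom (IsCyclic.mulAutMulEquiv Q).symm.surjective
      infer_instance
  refine CharMonomial.degree_one_of_commutator η.2 fun a b => FrobKernelChar.eq_of_not_relevant hη ?_
  have hc : MulAut.conjNormal (a * b * (b * a)⁻¹) = (1 : MulAut Q) := by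
    have hab := (IsMulCommutative.is_comm
      (M := (MulAut.conjNormal : F →* MulAut Q).range)).comm ⟨_, a, rfl⟩ ⟨_, b, rfl⟩
    have hab' : (MulAut.conjNormal a : MulAut Q) * MulAut.conjNormal b =
        MulAut.conjNormal b * MulAut.conjNormal a := congrArg Subtype.val hab
    rw [map_mul, map_inv, map_mul, map_mul, hab', mul_inv_cancel]
  rw [← h.cent, Subgroup.mem_centralizer_iff]
  intro q hq
  have := congrArg Subtype.val (DFunLike.congr_fun hc ⟨q, hq⟩)
  rw [MulAut.conjNormal_apply] at this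
  exact (mul_inv_eq_iff_eq_mul.1 this).symm

/-- There are as many characters trivial on `Q` as the index. -/
theorem Frob.card_irrelevant :
    ((FrobKernelChar.relSet Q)ᶜ : Finset (IrrCharacter F)).card = e := by
  haveI := h.normal
  have h1 := FrobKernelChar.sum_sq_irrelevant (K := Q)
  rw [Finset.sum_congr rfl fun η hη => by
    rw [h.degree_one (fun h' => Finset.mem_compl.1 hη (FrobKernelChar.mem_relSet.2 h')), mul_one],
    Finset.sum_const, nsmul_one, h.index] at h1
  exact_mod_cast h1

end CfsgLib.CyclicIso
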