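import Cfsg.Agent.Lib.CyclicIso.Projective
import Cfsg.Agent.Lib.BPStar.Abelian
import Cfsg.Agent.Lib.BlockCover.DefectGroup

/-!
# The kernel of the twists by all linear characters

When the stabiliser of the maximal pair centralises the abelian defect group `P`, every linear
character twists the block. The sum `∑ λ(v) (λ * ξ)` is divisible by `|P|` and by the orders of
the centralisers, and the twists of one character are distinguished by their values on the
subsections below the pair.
-/

set_option autoImplicit false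
set_option linter.unusedSectionVars false

namespace CfsgLib.CyclicIso

open Cfsg MonoidAlgebra CfsgLib.Blocks CfsgLib.Characters CfsgLib.BrauerPairs CfsgLib.BPStar
open scoped Classical ComplexConjugate

universe u

variable {p : ℕ} [Fact p.Prime] {M : Ideal AlgInt} [M.IsMaximal]
variable {G : Type u} [Group G] [Fintype G]
variable {B : Set (IrrCharacter G)} {P : Subgroup G}
variable {e : Set (IrrCharacter (Subgroup.centralizer (P : Set G)))}
variable {hM : IsPModular p M}

/-- A covered block of a centraliser has at most the defect of the block. -/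
theorem defect_le_of_covered (hM : IsPModular p M) (hB : IsPBlock M B)
    (hD : IsDefectGroup p M B P) {u : G} (hu : ∃ k : ℕ, orderOf u = p ^ k)
    {b : Set (IrrCharacter (cz (Subgroup.zpowers u)))} (hb : IsPBlock M b)
    (hcov : brMap (ResK M) (Subgroup.zpowers u) (eG hM B) * eA hM (cz (Subgroup.zpowers u)) b =
      eA hM (cz (Subgroup.zpowers u)) b) :
    p ^ blockDefect p b ≤ Nat.card P := by
  have := charP_res hM
  have hQC : (Subgroup.zpowers u) ≤ (cz (Subgroup.zpowers u)) := Subgroup.zpowers_le.2 (mem_cz_self u)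
  have hbi := isBlockIdem_eA hM hb
  have hS : BrSetup p (Subgroup.zpowers u) (eA hM (cz (Subgroup.zpowers u)) b) (cz (Subgroup.zpowers u)) :=
    ⟨BPStar.isPGroup_zpowers hu, hbi, cz_le_normalizer (Subgroup.zpowers u), le_rfl, hQC, hbi.fixed⟩
  obtain ⟨R, hR⟩ := BrauerPairs.exists_defectGroup hM hb
  have hd := (isDefectGroup_stabilizer_iff hM hS hb rfl R).1 hR
  rw [← BlockCover.natCard_defect hM hb hR,
    ← Subgroup.card_map_of_injective (f := (cz (Subgroup.zpowers u)).subtype) (cz (Subgroup.zpowers u)).subtype_injective]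
  refine (brSetup_block hM hB).card_le_defect ((isDefectGroup_iff hM hB P).1 hD) hd.pgroup le_top
    fun h0 => hd.br_ne ?_
  have hfix := fixAlg_anti (k := ResK M) (H := R.map (cz (Subgroup.zpowers u)).subtype) le_top (isBlockIdem_eG hM hB).fixed
  rw [← hcov, brMap_mul hd.pgroup ?_ (fixAlg_anti hd.le_T hbi.fixed), brMap_brMap_of_le hd.le, h0,
    zero_mul]
  exact brMap_mem_fixAlg (hd.le_T.trans (cz_le_normalizer (Subgroup.zpowers u))) hfix

/-- The centraliser of a product is that of the regular part in the centraliser of the `p`-part. -/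
theorem card_centralizer_sec (hp : p.Prime) {u : G} (hu : ∃ k : ℕ, orderOf u = p ^ k)
    {s : cz (Subgroup.zpowers u)} (hs : ¬ p ∣ orderOf s) :
    Nat.card (Subgroup.centralizer ({u * (s : G)} : Set G)) =
      Nat.card (Subgroup.centralizer ({s} : Set (cz (Subgroup.zpowers u)))) := by
  have hpp := isPPart_mul (commute_of_mem_cz s.2) hu (by rwa [Subgroup.orderOf_coe])
  have hmem : ∀ g : G, g ∈ Subgroup.centralizer ({u * (s : G)} : Set G) →
      g ∈ cz (Subgroup.zpowers u) ∧ g * (s : G) = s * g := by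
    intro g hg
    have hg' := Subgroup.mem_centralizer_singleton_iff.1 hg
    have hconj : g * (u * (s : G)) * g⁻¹ = u * (s : G) := by
      rw [hg', mul_inv_cancel_right]
    have h1 := IsPPart.conj hpp g
    rw [hconj] at h1
    have hgu : Commute g u := by
      have h2 := IsPPart.unique hp h1 hpp
      calc g * u = g * u * g⁻¹ * g := by group
        _ = u * g := by rw [h2]
    refine ⟨mem_cz.2 fun v hv => ?_, ?_⟩
    · obtain ⟨j, rfl⟩ := Subgroup.mem_zpowers_iff.1 hv
      exact (hgu.symm.zpow_left j).eq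
    · apply mul_left_cancel (a := u)
      calc u * (g * (s : G)) = g * (u * (s : G)) := by rw [← mul_assoc, ← hgu.eq, mul_assoc]
        _ = u * (s : G) * g := hg'
        _ = _ := mul_assoc _ _ _
  refine Nat.card_congr
    { toFun := fun g => ⟨⟨g.1, (hmem g.1 g.2).1⟩,
        Subgroup.mem_centralizer_singleton_iff.2 (Subtype.ext (hmem g.1 g.2).2)⟩
      invFun := fun g => ⟨((g.1 : cz (Subgroup.zpowers u)) : G),
        Subgroup.mem_centralizer_singleton_iff.2 ?_⟩
      left_inv := fun g => rfl
      right_inv := fun g => rfl }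
  have h1 : Commute u ((g.1 : cz (Subgroup.zpowers u)) : G) := commute_of_mem_cz g.1.2
  have h2 : Commute ((g.1 : cz (Subgroup.zpowers u)) : G) (s : G) :=
    congrArg Subtype.val (Subgroup.mem_centralizer_singleton_iff.1 g.2)
  exact (h1.symm.mul_right h2).eq

/-- `∑ λ(v) (λ * ξ)`. -/
noncomputable def kerFun (hM : IsPModular p M) (B : Set (IrrCharacter G)) (P : Subgroup G)
    (e : Set (IrrCharacter (Subgroup.centralizer (P : Set G)))) [Fintype (P →* ℂˣ)] (ξ : G → ℂ)
    (v : P) : G → ℂ :=
  fun z => ∑ lam : P →* ℂˣ, (lam v : ℂ) * starFun hM B P e lam ξ z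

/-- The stabiliser of the maximal pair centralises `P`. -/
def Central (hM : IsPModular p M) (P : Subgroup G)
    (e : Set (IrrCharacter (Subgroup.centralizer (P : Set G)))) : Prop :=
  ∀ t ∈ pairStab P (eA hM (cz P) e), t ∈ cz P

variable (c : AbCtx hM B P e) (hc : Central hM P e)
include c hc

/-- Every linear character twists. -/
theorem starCtx_all (lam : P →* ℂˣ) : StarCtx hM B P e lam := c.starCtx fun t ht x y h => by
  have : y = x := Subtype.ext (by rw [← h, ← mem_cz.1 (hc t ht) x x.2, mul_inv_cancel_right])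
  rw [this]

/-- The kernel is divisible by the centraliser orders and by the order of `P`. -/
theorem kerFun_div_mem [Fintype (P →* ℂˣ)] {ξ : IrrCharacter G} (hξ : ξ ∈ B) (v : P) (z : G) :
    kerFun hM B P e (ξ : G → ℂ) v z / (Nat.card (Subgroup.centralizer ({z} : Set G)) : ℂ) ∈
        lRing hM ∧
      kerFun hM B P e (ξ : G → ℂ) v z / (Nat.card P : ℂ) ∈ lRing hM := by
  obtain ⟨u, s, hu, hs, rfl⟩ := exists_sec_decomp hM.1 z
  have hcomm : ∀ a b : P, a * b = b * a := fun a b => Subtype.ext (mem_cz.1 (c.comm b.2) a a.2)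
  set w : Set (IrrCharacter (cz (Subgroup.zpowers u))) → ℂ := fun b => ∑ lam : P →* ℂˣ,
    (lam v : ℂ) * wt hM P e lam u (eA hM (cz (Subgroup.zpowers u)) b) with hw
  have hexp : kerFun hM B P e (ξ : G → ℂ) v (u * (s : G)) =
      ∑ b ∈ blockSets M (cz (Subgroup.zpowers u)), w b * blockPart b (secFun u (ξ : G → ℂ)) s := by
    simp only [kerFun, starFun_sec c.isPBlockB hξ hu hs, Finset.mul_sum, hw, Finset.sum_mul]
    rw [Finset.sum_comm]
    exact Finset.sum_congr rfl fun b _ => Finset.sum_congr rfl fun lam _ => by ring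
  rw [hexp, Finset.sum_div, Finset.sum_div]
  suffices H : ∀ b ∈ blockSets M (cz (Subgroup.zpowers u)),
      w b * blockPart b (secFun u (ξ : G → ℂ)) s /
          (Nat.card (Subgroup.centralizer ({u * (s : G)} : Set G)) : ℂ) ∈ lRing hM ∧
        w b * blockPart b (secFun u (ξ : G → ℂ)) s / (Nat.card P : ℂ) ∈ lRing hM from
    ⟨(lRing hM).sum_mem fun b hb => (H b hb).1, (lRing hM).sum_mem fun b hb => (H b hb).2⟩
  intro b hb
  have hb' := mem_blockSets.1 hb
  by_cases hcov : brMap (ResK M) (Subgroup.zpowers u) (eG hM B) * eA hM (cz (Subgroup.zpowers u)) b = eA hM (cz (Subgroup.zpowers u)) b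
  swap
  · rw [blockPart_secFun_eq_zero hM c.isPBlockB hξ hu hs hb' hcov, mul_zero, zero_div, zero_div]
    exact ⟨(lRing hM).zero_mem, (lRing hM).zero_mem⟩
  obtain ⟨g, hg, hle, -⟩ := (starCtx_all c hc 1).exists_weight (BPStar.isPGroup_zpowers hu)
    (isBlockIdem_eA hM hb') hcov
  have hwb : w b = if v * ⟨g * u * g⁻¹, hg⟩ = 1 then (Nat.card P : ℂ) else 0 := by
    refine (Finset.sum_congr rfl fun lam _ => ?_).trans
      ((Homo949.sum_hom_eval hcomm (v * ⟨g * u * g⁻¹, hg⟩)).trans (by congr))
    rw [map_mul, Units.val_mul, wt, wA_eq (starCtx_all c hc lam).wd hle]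
  rw [hwb]
  split_ifs
  swap
  · rw [zero_mul, zero_div, zero_div]
    exact ⟨(lRing hM).zero_mem, (lRing hM).zero_mem⟩
  obtain ⟨a, ha⟩ := IsPGroup.iff_card.1 c.pgroup
  have hd : blockDefect p b ≤ a := by
    have := defect_le_of_covered hM c.isPBlockB c.defect hu hb' hcov
    rw [ha] at this
    exact (Nat.pow_le_pow_iff_right hM.1.one_lt).1 this
  rw [blockPart_eq_sum, Finset.mul_sum, Finset.sum_div, Finset.sum_div]
  refine ⟨(lRing hM).sum_mem fun η hη => ?_, (lRing hM).sum_mem fun η hη => ?_⟩
  · have hηb : η ∈ b := by simpa using hη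
    have h1 := regular_div_mem hM hb' hηb hd hs
    rw [card_centralizer_sec hM.1 hu hs, ha, Nat.cast_pow,
      show (p : ℂ) ^ a * (classInner (secFun u (ξ : G → ℂ)) (η : (cz (Subgroup.zpowers u)) → ℂ) * (η : (cz (Subgroup.zpowers u)) → ℂ) s) =
        secMult u (ξ : G → ℂ) η * ((p : ℂ) ^ a * (η : (cz (Subgroup.zpowers u)) → ℂ) s) by rw [secMult]; ring,
      mul_div_assoc]
    exact (lRing hM).mul_mem (isIntegral_mem_lRing hM (secMult_spec u ξ η).1) h1
  · rw [mul_div_cancel_left₀ _ (Nat.cast_ne_zero.2 Nat.card_pos.ne')]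
    exact (lRing hM).mul_mem (isIntegral_mem_lRing hM (secMult_spec u ξ η).1)
      (isIntegral_mem_lRing hM (KGV.char_isIntegral (irr_isCharacter η) s))

omit hc in
/-- The value of a character on the subsection of `x` below the pair. -/
noncomputable def dval (x : P) (χ : G → ℂ) : ℂ :=
  blockPart (c.exists_local x).choose (secFun (x : G) χ) 1

omit hc in
theorem dval_ne_zero (x : P) {χ : IrrCharacter G} (hχ : χ ∈ B) : dval c x (χ : G → ℂ) ≠ 0 := by
  obtain ⟨hf, hfa, -⟩ := (c.exists_local x).choose_spec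
  exact blockPart_central_ne_zero hM c.hmax hχ x (c.comm x.2) hf
    (by rw [hfa]; exact subA_le hM c.block c.pgroup x)

theorem dval_star (x : P) (lam : P →* ℂˣ) {χ : IrrCharacter G} (hχ : χ ∈ B) :
    dval c x (starChar (starCtx_all c hc lam) hχ : G → ℂ) =
      (lam x : ℂ) * dval c x (χ : G → ℂ) := by
  obtain ⟨hf, hfa, -⟩ := (c.exists_local x).choose_spec
  have hu : ∃ k : ℕ, orderOf (x : G) = p ^ k := by
    rw [Subgroup.orderOf_coe]
    exact IsPGroup.iff_orderOf.1 c.pgroup x
  rw [dval, dval, blockPart_starChar (starCtx_all c hc lam) hχ hu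
    (by rw [orderOf_one]; exact hM.1.not_dvd_one) hf]
  congr 1
  have hle' : PairLE p (conjPair (1 : G) (Subgroup.zpowers (x : G),
      eA hM (cz (Subgroup.zpowers (x : G))) (c.exists_local x).choose)) (P, eA hM (cz P) e) := by
    rw [conjPair_one]
    rw [hfa]; exact subA_le hM c.block c.pgroup x
  rw [wt, wA_eq (starCtx_all c hc lam).wd hle']
  congr 2
  exact Subtype.ext (by simp)

/-- A twist is recognised by its values on the subsections. -/
theorem eq_of_dval {lam mu : P →* ℂˣ} {χ : IrrCharacter G} (hχ : χ ∈ B)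
    (h : ∀ x : P, dval c x (starChar (starCtx_all c hc lam) hχ : G → ℂ) =
      (mu x : ℂ) * dval c x (χ : G → ℂ)) : lam = mu :=
  MonoidHom.ext fun x => Units.ext (mul_right_cancel₀ (dval_ne_zero c x hχ)
    ((dval_star c hc x lam hχ).symm.trans (h x)))

theorem starChar_injective {lam mu : P →* ℂˣ} {χ : IrrCharacter G} (hχ : χ ∈ B)
    (h : starChar (starCtx_all c hc lam) hχ = starChar (starCtx_all c hc mu) hχ) : lam = mu :=
  eq_of_dval c hc hχ fun x => by rw [h]; exact dval_star c hc x mu hχ

end CfsgLib.CyclicIso
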