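import Cfsg.Agent.Lib.BrauerPairs.Inside
import Cfsg.Agent.Lib.Blocks.BlockParts

/-!
# Naturality of block parts and block idempotents under isomorphisms
-/

set_option autoImplicit false
set_option linter.unusedSectionVars false

namespace CfsgLib.CyclicIso

open Cfsg MonoidAlgebra CfsgLib.Blocks CfsgLib.Characters CfsgLib.BrauerPairs
open scoped Classical ComplexConjugate

universe u

/-- The restriction of an isomorphism to subgroups. -/
def restrEquiv {A C : Type u} [Group A] [Group C] (τ : A ≃* C) {K1 : Subgroup A} {K2 : Subgroup C}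
    (h : ∀ y : A, y ∈ K1 ↔ τ y ∈ K2) : K1 ≃* K2 where
  toFun y := ⟨τ (y : A), (h y).1 y.2⟩
  invFun z := ⟨τ.symm (z : C), (h _).2 (by rw [τ.apply_symm_apply]; exact z.2)⟩
  left_inv y := Subtype.ext (τ.symm_apply_apply (y : A))
  right_inv z := Subtype.ext (τ.apply_symm_apply (z : C))
  map_mul' y z := Subtype.ext (map_mul τ (y : A) (z : A))

@[simp] theorem coe_restrEquiv {A C : Type u} [Group A] [Group C] (τ : A ≃* C) {K1 : Subgroup A}
    {K2 : Subgroup C} (h : ∀ y : A, y ∈ K1 ↔ τ y ∈ K2) (y : K1) :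
    ((restrEquiv τ h y : K2) : C) = τ (y : A) := rfl

/-- Block parts under an isomorphism. -/
theorem blockPart_twist {A C : Type u} [Group A] [Fintype A] [Group C] [Fintype C] (φ : A ≃* C)
    (s : Set (IrrCharacter C)) (F : C → ℂ) (a : A) :
    blockPart (CharCorr.twistIrr φ '' s) (fun x => F (φ x)) a = blockPart s F (φ a) := by
  rw [blockPart_eq_sum, blockPart_eq_sum]
  refine (Finset.sum_bij (fun η _ => CharCorr.twistIrr φ η) (fun η hη => ?_)
    (fun η _ η' _ h => ?_) (fun η hη => ?_) (fun η _ => ?_)).symm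
  · exact Finset.mem_filter.2 ⟨Finset.mem_univ _, η, (Finset.mem_filter.1 hη).2, rfl⟩
  · refine Subtype.ext (funext fun z => ?_)
    have h2 := congrFun (congrArg Subtype.val h) (φ.symm z)
    simpa using h2
  · obtain ⟨η', hη', rfl⟩ := (Finset.mem_filter.1 hη).2
    exact ⟨η', Finset.mem_filter.2 ⟨Finset.mem_univ _, hη'⟩, rfl⟩
  · have hc : classInner F (η : C → ℂ) =
        classInner (fun x => F (φ x)) (CharCorr.twistIrr φ η : A → ℂ) := by
      rw [classInner, classInner, Nat.card_congr φ.toEquiv]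
      congr 1
      refine (Fintype.sum_equiv φ.toEquiv _ _ fun z => ?_).symm
      rw [CharCorr.twistIrr_apply]
      rfl
    rw [hc, CharCorr.twistIrr_apply]

variable {p : ℕ} {M : Ideal AlgInt} [M.IsMaximal] {G : Type u} [Group G] [Finite G]

/-- The idempotent of a block moved by conjugation inside a normalised subgroup. -/
theorem inclA_eA_conj (hM : IsPModular p M) {H : Subgroup G} {n : G}
    (hn : ∀ k, k ∈ H ↔ n⁻¹ * k * n ∈ H) {K1 K2 : Subgroup H}
    (h : ∀ y : H, y ∈ K1 ↔ conjEquiv n hn y ∈ K2) (f : Set (IrrCharacter K2)) :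
    inclA (ResK M) H (eA hM K1 (CharCorr.twistIrr (restrEquiv (conjEquiv n hn) h) '' f)) =
      conjA n (inclA (ResK M) H (eA hM K2 f)) := by
  ext g
  rw [coeff_conjA]
  by_cases hg : g ∈ H
  · rw [show (inclA (ResK M) H (eA hM K1 (CharCorr.twistIrr (restrEquiv (conjEquiv n hn) h) '' f))).coeff
        g = _ from coeff_inclA _ ⟨g, hg⟩,
      show (inclA (ResK M) H (eA hM K2 f)).coeff (n⁻¹ * g * n) = _ from
        coeff_inclA _ (conjEquiv n hn ⟨g, hg⟩)]
    refine coeff_redFun_congr hM ?_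
    by_cases hK : (⟨g, hg⟩ : H) ∈ K1
    · rw [subgroupBlockCoeff_coe K1 _ ⟨⟨g, hg⟩, hK⟩, blockCoeff_twist,
        ← subgroupBlockCoeff_coe K2 f (restrEquiv (conjEquiv n hn) h ⟨⟨g, hg⟩, hK⟩)]
      rfl
    · rw [subgroupBlockCoeff_notMem _ hK, subgroupBlockCoeff_notMem _ fun h' => hK ((h _).2 h')]
  · rw [coeff_inclA_of_notMem _ hg, coeff_inclA_of_notMem _ fun h' => hg ((hn g).2 h')]

end CfsgLib.CyclicIso
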