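import Cfsg.Agent.Lib.CyclicIso.Kernel
import Cfsg.Agent.Lib.CyclicIso.Natural
import Cfsg.Agent.Lib.CyclicBlock.Main
import Cfsg.Agent.Lib.BPStar.Watanabe

/-!
# The members of the local block as the linear characters of the cyclic defect group

The twists of the fixed member by the linear characters of `D` are all the members of the block
of `K`, equivariantly for the stabiliser.
-/

set_option autoImplicit false
set_option linter.unusedSectionVars false
set_option linter.style.haveILetI false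

namespace CfsgLib.CyclicIso

open Cfsg MonoidAlgebra CfsgLib.Blocks CfsgLib.Characters CfsgLib.BrauerPairs CfsgLib.BPStar
  CfsgLib.CyclicBlock
open scoped Classical ComplexConjugate

universe u

variable {G : Type u} [Group G] [Fintype G] {p : ℕ} [hp : Fact p.Prime] {M : Ideal AlgInt}
  [M.IsMaximal] {hM : IsPModular p M} {B : Set (IrrCharacter G)} (L : Data hM B) [Fintype L.K]

/-- The maximal pair of the local block, inside `K`. -/
theorem exists_inK :
    ∃ e' : Set (IrrCharacter (Subgroup.centralizer ((L.D.subgroupOf L.K : Subgroup L.K) : Set L.K))),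
      AbCtx hM L.blk (L.D.subgroupOf L.K) e' ∧
        inclA (ResK M) L.K (eA hM (cz (L.D.subgroupOf L.K)) e') = L.e := by
  letI : ∀ H : Subgroup G, Fintype H := fun H => Fintype.ofFinite H
  obtain ⟨c, hc, hce⟩ := exists_eA_eq hM (K := cz L.D) L.he
  have hKmem := fun x : L.K => mem_cz_subgroupOf L.D_le_K x
  have hbe := isPBlock_twist (M := M) (inEquiv L.czD_le_K hKmem) hc
  have hincl := (inclA_eA hM L.czD_le_K hKmem c).trans hce
  refine ⟨_, ⟨?_, fun y hy => (hKmem y).2 (L.D_le_czD hy)⟩, hincl⟩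
  refine (isMaximalBrauerPair_iff hM L.blk _ _).2 ⟨(isBrauerPairOf_iff hM L.blk _ _).2
    ⟨hbe, L.blk_isPBlock, L.pgroup.comap_subtype, bot_le, le_top, isBlockIdem_eA hM hbe, ?_⟩,
    (isDefectGroup_iff hM L.blk_isPBlock _).1 L.blk_defectGroup⟩
  refine inclA_injective L.K ?_
  rw [map_mul, inclA_brMap, Subgroup.map_subgroupOf_eq_of_le L.D_le_K, inclA_eG, hincl]
  exact L.blk_over.cover

theorem mem_cz_zpowers_iff {H : Type u} [Group H] {a y : H} :
    y ∈ cz (Subgroup.zpowers a) ↔ a * y = y * a := by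
  rw [mem_cz]
  refine ⟨fun h => h a (Subgroup.mem_zpowers a), fun h v hv => ?_⟩
  obtain ⟨j, rfl⟩ := Subgroup.mem_zpowers_iff.1 hv
  exact ((show Commute a y from h).zpow_left j).eq

/-- The members of the local block labelled by the linear characters of `D`. -/
theorem exists_labelling (R : L.Reps) [Fintype (L.D →* ℂˣ)] :
    ∃ lab : (L.D →* ℂˣ) → IrrCharacter L.K,
      lab 1 = R.ξ₀ ∧ Set.BijOn lab Set.univ L.blk ∧
      (∀ n : L.T₁, (n : G) ∈ L.T → ∀ lam mu : L.D →* ℂˣ,
        (∀ x x' : L.D, (x' : G) = (n : G)⁻¹ * x * n → mu x = lam x') →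
          L.act n (lab lam) = lab mu) ∧
      ∀ (v : L.D) (z : L.K),
        (∑ lam : L.D →* ℂˣ, (lam v : ℂ) * (lab lam : L.K → ℂ) z) /
            (Nat.card (Subgroup.centralizer ({z} : Set L.K)) : ℂ) ∈ lRing hM ∧
          (∑ lam : L.D →* ℂˣ, (lam v : ℂ) * (lab lam : L.K → ℂ) z) / (Nat.card L.D : ℂ) ∈
            lRing hM := by
  obtain ⟨e', c, hincl⟩ := exists_inK L
  have hc : Central hM (L.D.subgroupOf L.K) e' := fun t ht =>
    (mem_cz_subgroupOf L.D_le_K t).2
      (L.T_inf_K ((pairStab_inside L.D_le_K hincl t).1 ht) t.2)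
  set σ : L.D.subgroupOf L.K ≃* L.D := Subgroup.subgroupOfEquivOfLe L.D_le_K with hσdef
  set S : (L.D →* ℂˣ) ≃ (L.D.subgroupOf L.K →* ℂˣ) :=
    { toFun := fun lam => lam.comp σ.toMonoidHom
      invFun := fun lam => lam.comp σ.symm.toMonoidHom
      left_inv := fun lam => MonoidHom.ext fun x => by simp
      right_inv := fun lam => MonoidHom.ext fun x => by simp } with hS
  set lab : (L.D →* ℂˣ) → IrrCharacter L.K := fun lam =>
    starChar (starCtx_all c hc (S lam)) R.mem₀ with hlab
  have hmem : ∀ lam, lab lam ∈ L.blk := fun lam => starChar_mem _ _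
  have hinj : Function.Injective lab := fun a b h => S.injective (starChar_injective c hc R.mem₀ h)
  have hrange : Set.range lab = L.blk := by
    refine Set.eq_of_subset_of_ncard_le (Set.range_subset_iff.2 hmem) ?_ (Set.toFinite _)
    have hcomm : ∀ a b : L.D, a * b = b * a := fun a b =>
      Subtype.ext (mem_cz.1 (L.D_le_czD b.2) a a.2)
    rw [← Nat.card_coe_set_eq, ← Nat.card_coe_set_eq, Nat.card_range_of_injective hinj,
      Homo949.card_dual hcomm, L.blk_rank_and_card.2]
  have hbij : Set.BijOn lab Set.univ L.blk :=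
    ⟨fun lam _ => hmem lam, hinj.injOn, fun ξ hξ => by
      rw [← hrange] at hξ
      obtain ⟨lam, rfl⟩ := hξ
      exact ⟨lam, trivial, rfl⟩⟩
  refine ⟨lab, ?_, hbij, fun n hn lam mu hmu => ?_, fun v z => ?_⟩
  · have h1 : S 1 = 1 := MonoidHom.ext fun x => rfl
    have h2 : ∀ (l : L.D.subgroupOf L.K →* ℂˣ) (h : StarCtx hM L.blk (L.D.subgroupOf L.K) e' l),
        l = 1 → starChar h R.mem₀ = R.ξ₀ := by
      rintro _ h rfl; exact starChar_one h _
    exact h2 _ _ h1
  · -- transport by the conjugation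
    set τ := conjEquiv (n : G) (L.T₁_conj_iff n) with hτ
    have hmove : ∀ x x' : L.D.subgroupOf L.K, (x' : L.K) = τ x →
        ∀ χ : IrrCharacter L.K, dval c x (L.act n χ : L.K → ℂ) = dval c x' (χ : L.K → ℂ) := by
      intro x x' hx χ
      have hiff : ∀ y : L.K, y ∈ cz (Subgroup.zpowers (x : L.K)) ↔
          τ y ∈ cz (Subgroup.zpowers (x' : L.K)) := fun y => by
        rw [mem_cz_zpowers_iff, mem_cz_zpowers_iff, hx, ← map_mul, ← map_mul, τ.injective.eq_iff]
      obtain ⟨hf, hfa, -⟩ := (c.exists_local x).choose_spec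
      obtain ⟨hf', hfa', -, -, hov'⟩ := (c.exists_local x').choose_spec
      have heq : (c.exists_local x).choose =
          CharCorr.twistIrr (restrEquiv τ hiff) '' (c.exists_local x').choose := by
        have hb := isPBlock_twist (M := M) (restrEquiv τ hiff) hf'
        refine eA_inj hM hf hb (hfa.trans ((c.eA_eq_subA_iff x hb).2 ?_).symm)
        refine inclA_injective L.K ?_
        rw [map_mul, inclA_brMap, Subgroup.map_subgroupOf_eq_of_le L.D_le_K, hincl,
          inclA_eA_conj hM (L.T₁_conj_iff n) hiff]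
        have h2 := congrArg (inclA (ResK M) L.K) hov'.cover
        rw [map_mul, inclA_brMap, Subgroup.map_subgroupOf_eq_of_le L.D_le_K, hincl] at h2
        have h3 := congrArg (conjA (n : G)) h2
        rwa [conjA_mul, conjA_brMap, map_conj_eq_self hn.1, hn.2] at h3
      rw [dval, dval, heq,
        show secFun (x : L.K) (L.act n χ : L.K → ℂ) =
          fun y => secFun (x' : L.K) (χ : L.K → ℂ) (restrEquiv τ hiff y) from funext fun y => by
            show (χ : L.K → ℂ) (τ ((x : L.K) * (y : L.K))) = _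
            rw [map_mul, ← hx]; rfl,
        blockPart_twist, map_one]
    obtain ⟨nu, -, hnu⟩ := hbij.2.2 (L.act_mem n (hmem lam))
    rw [← hnu]
    refine congrArg lab (S.injective (eq_of_dval c hc R.mem₀ fun x => ?_))
    show dval c x (lab nu : L.K → ℂ) = _
    have hxD : (n : G)⁻¹ * ((x : L.K) : G) * n ∈ L.D := by
      have := (Subgroup.mem_normalizer_iff.1 (Subgroup.inv_mem _ hn.1) ((x : L.K) : G)).1
        (Subgroup.mem_subgroupOf.1 x.2)
      rwa [inv_inv] at this
    set x' : L.D.subgroupOf L.K := ⟨τ x, Subgroup.mem_subgroupOf.2 hxD⟩ with hx'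
    rw [hnu, hmove x x' rfl, hlab, dval_star c hc x' _ R.mem₀, ← hmove x x' rfl R.ξ₀, R.fixed n]
    congr 2
    exact (hmu (σ x) (σ x') rfl).symm
  · letI : Fintype (L.D.subgroupOf L.K →* ℂˣ) := Fintype.ofEquiv _ S
    have hsum : ∑ lam : L.D →* ℂˣ, (lam v : ℂ) * (lab lam : L.K → ℂ) z =
        kerFun hM L.blk (L.D.subgroupOf L.K) e' (R.ξ₀ : L.K → ℂ) (σ.symm v) z := by
      refine Fintype.sum_equiv S _ _ fun lam => ?_
      show _ = ((lam (σ (σ.symm v)) : ℂˣ) : ℂ) * _
      rw [σ.apply_symm_apply, hlab, starChar_coe]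
    rw [hsum, ← Nat.card_congr σ.toEquiv]
    exact kerFun_div_mem c hc R.mem₀ (σ.symm v) z

end CfsgLib.CyclicIso
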