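import Cfsg.Agent.Lib.CyclicIso.Frob
import Cfsg.Agent.Lib.CyclicIso.Label

/-!
# The perfect isometry from the Frobenius group

A block with cyclic defect group `D` and inertial index `e` is perfectly isometric to a group
`Q ⋊ C_e` with `Q` cyclic of order `|D|` and self-centralising.
-/

set_option autoImplicit false
set_option linter.unusedSectionVars false
set_option linter.style.haveILetI false
set_option maxHeartbeats 1000000

namespace CfsgLib.CyclicIso

open Cfsg CfsgLib.Blocks CfsgLib.Characters CfsgLib.BrauerPairs CfsgLib.CyclicBlock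
  CfsgLib.Contribution
open scoped Classical ComplexConjugate

universe u v

section Linear

variable {G : Type u} [Group G] [Fintype G]

theorem indFun_sum {ι : Type*} (H : Subgroup G) (s : Finset ι) (a : ι → ℂ) (f : ι → H → ℂ)
    (g : G) :
    indFun H (fun k => ∑ i ∈ s, a i * f i k) g = ∑ i ∈ s, a i * indFun H (f i) g := by
  have hz : ∀ y : G, extendByZero H (fun k => ∑ i ∈ s, a i * f i k) y =
      ∑ i ∈ s, a i * extendByZero H (f i) y := fun y => by
    by_cases hy : y ∈ H
    · simp only [Induction.extendByZero_mem H _ hy]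
    · simp only [Induction.extendByZero_notMem H _ hy, mul_zero, Finset.sum_const_zero]
  simp only [Induction.indFun_apply, hz]
  rw [Finset.sum_comm, Finset.mul_sum]
  refine Finset.sum_congr rfl fun i _ => ?_
  rw [← Finset.mul_sum]
  ring

theorem indFun_twist {H : Subgroup G} {n : G} (hn : ∀ k, k ∈ H ↔ n⁻¹ * k * n ∈ H) (θ : H → ℂ)
    (g : G) : indFun H (fun k => θ (conjEquiv n hn k)) g = indFun H θ g := by
  rw [Induction.indFun_apply, Induction.indFun_apply]
  congr 1
  refine Fintype.sum_equiv (Equiv.mulRight n) _ _ fun x => ?_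
  rw [Equiv.coe_mulRight, show (x * n)⁻¹ * g * (x * n) = n⁻¹ * (x⁻¹ * g * x) * n by group]
  by_cases hy : x⁻¹ * g * x ∈ H
  · rw [Induction.extendByZero_mem H _ hy, Induction.extendByZero_mem H _ ((hn _).1 hy)]
    rfl
  · rw [Induction.extendByZero_notMem H _ hy,
      Induction.extendByZero_notMem H _ fun h => hy ((hn _).2 h)]

end Linear

variable {G : Type u} [Group G] [Fintype G] {p : ℕ} [hp : Fact p.Prime] {M : Ideal AlgInt}
  [M.IsMaximal] {hM : IsPModular p M} {B : Set (IrrCharacter G)} (L : Data hM B) [Fintype L.K]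

/-- The inertial group acts on `D` through a group of order the inertial index. -/
theorem card_range_T :
    Nat.card (L.D.normalizerMonoidHom.comp
      (Subgroup.inclusion (fun _ hg => hg.1 : L.T ≤ Subgroup.normalizer (L.D : Set G)))).range =
        L.inertia := by
  rw [L.inertia_eq, ← Subgroup.index_ker, Subgroup.relIndex]
  congr 1
  ext t
  rw [MonoidHom.mem_ker, Subgroup.mem_subgroupOf, mem_cz]
  constructor
  · intro h q hq
    have h1 := congrArg Subtype.val (DFunLike.congr_fun h ⟨q, hq⟩)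
    exact (mul_inv_eq_iff_eq_mul.1 (show (t : G) * q * (t : G)⁻¹ = q from h1)).symm
  · intro h
    ext x
    show (t : G) * x * (t : G)⁻¹ = x
    exact mul_inv_eq_iff_eq_mul.2 (h x x.2).symm

variable {F : Type v} [Group F] [Fintype F] {Q : Subgroup F}

/-- The two actions correspond. -/
theorem exists_correspondence (h : Frob p Q L.inertia) (ι : Q ≃* L.D) :
    (∀ x : F, ∃ n ∈ L.T, ∀ q q' : Q, (q' : F) = x * q * x⁻¹ →
      (ι q' : G) = n * (ι q : G) * n⁻¹) ∧
    ∀ n ∈ L.T, ∃ x : F, ∀ q q' : Q, (q' : F) = x * q * x⁻¹ →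
      (ι q' : G) = n * (ι q : G) * n⁻¹ := by
  haveI := h.normal
  haveI := h.cyc
  haveI := L.hcyc
  set φ := L.D.normalizerMonoidHom.comp
    (Subgroup.inclusion (fun _ hg => hg.1 : L.T ≤ Subgroup.normalizer (L.D : Set G)))
  set R₁ : Subgroup (MulAut L.D) :=
    (MulAut.conjNormal : F →* MulAut Q).range.map (MulAut.congr ι).toMonoidHom
  have hR₁ : Nat.card R₁ = L.inertia := by
    rw [Subgroup.card_map_of_injective (MulAut.congr ι).injective, h.card_range]
  have heq : R₁ = φ.range := autSubgroup_eq L.pgroup L.inertia_dvd _ _ hR₁ (card_range_T L)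
  have key : ∀ (x : F) (n : L.T), MulAut.congr ι (MulAut.conjNormal x) = φ n →
      ∀ q q' : Q, (q' : F) = x * q * x⁻¹ → (ι q' : G) = n * (ι q : G) * (n : G)⁻¹ := by
    intro x n hxn q q' hq
    have h1 := congrArg Subtype.val (DFunLike.congr_fun hxn (ι q))
    rw [show q' = MulAut.conjNormal x q from Subtype.ext (by rw [MulAut.conjNormal_apply]; exact hq)]
    refine Eq.trans ?_ h1
    exact congrArg (fun r => (ι r : G)) (congrArg (MulAut.conjNormal x) (ι.symm_apply_apply q).symm)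
  refine ⟨fun x => ?_, fun n hn => ?_⟩
  · obtain ⟨n, hn⟩ : MulAut.congr ι (MulAut.conjNormal x) ∈ φ.range :=
      heq ▸ ⟨_, ⟨x, rfl⟩, rfl⟩
    exact ⟨n, n.2, key x n hn.symm⟩
  · obtain ⟨_, ⟨x, rfl⟩, hx⟩ : φ ⟨n, hn⟩ ∈ R₁ := heq ▸ ⟨⟨n, hn⟩, rfl⟩
    exact ⟨x, key x ⟨n, hn⟩ hx⟩

/-- The exceptional labels: the orbits on the local block are the characters nontrivial on `Q`. -/
theorem exists_relevant_equiv (R : L.Reps) [Fintype (L.D →* ℂˣ)] (h : Frob p Q L.inertia)
    (ι : Q ≃* L.D) {lab : (L.D →* ℂˣ) → IrrCharacter L.K} (h1 : lab 1 = R.ξ₀)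
    (hbij : Set.BijOn lab Set.univ L.blk)
    (hact : ∀ n : L.T₁, (n : G) ∈ L.T → ∀ lam mu : L.D →* ℂˣ,
      (∀ x x' : L.D, (x' : G) = (n : G)⁻¹ * x * n → mu x = lam x') →
        L.act n (lab lam) = lab mu) :
    ∃ η : Fin R.m → IrrCharacter F, Function.Injective η ∧
      (∀ i, FrobKernelChar.Relevant Q (η i : F → ℂ)) ∧
      (∀ χ : IrrCharacter F, FrobKernelChar.Relevant Q (χ : F → ℂ) → ∃ i, η i = χ) ∧
      ∀ (v : Q) (f : IrrCharacter L.K → ℂ),
        (∀ (n : L.T₁) (ξ : IrrCharacter L.K), f (L.act n ξ) = f ξ) →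
        ∑ lam : L.D →* ℂˣ, (lam (ι v) : ℂ) * f (lab lam) =
          f R.ξ₀ + ∑ i, (η i : F → ℂ) v * f (R.ξ i) := by
  obtain ⟨hFT, hTF⟩ := exists_correspondence L h ι
  have hinj : Function.Injective lab := fun a b hab => hbij.2.1 trivial trivial hab
  choose lamI hlamI using fun i => hbij.2.2 (R.mem i)
  replace hlamI : ∀ i, lab (lamI i) = R.ξ i := fun i => (hlamI i).2
  set pull : (L.D →* ℂˣ) → (Q →* ℂˣ) := fun lam => lam.comp ι.toMonoidHom with hpull
  have hpull1 : ∀ lam, lam ≠ 1 → pull lam ≠ 1 := fun lam hl he => hl (MonoidHom.ext fun x => by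
    simpa [hpull] using DFunLike.congr_fun he (ι.symm x))
  have hne : ∀ i, lamI i ≠ 1 := fun i he => R.ne i (by rw [← hlamI, he, h1])
  set η : Fin R.m → IrrCharacter F := fun i => h.indIrr (hpull1 _ (hne i)) with hη
  -- the orbits agree
  have key : ∀ (lam : L.D →* ℂˣ) (hl : lam ≠ 1) (i : Fin R.m),
      h.indIrr (hpull1 _ hl) = η i ↔ ∃ n, L.act n (R.ξ i) = lab lam := by
    intro lam hl i
    constructor
    · intro he
      obtain ⟨x, hx⟩ := h.exists_conj_of_ind_eq (hpull1 _ (hne i)) (hpull1 _ hl) he.symm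
      obtain ⟨n, hn, hn'⟩ := hFT x
      refine ⟨⟨n, L.T_le_T₁ hn⟩, ?_⟩
      rw [← hlamI i]
      refine hact _ hn _ _ fun a a' ha => ?_
      haveI := h.normal
      set q := ι.symm a' with hq
      set q' : Q := MulAut.conjNormal x q with hq'
      have hc : (q' : F) = x * q * x⁻¹ := MulAut.conjNormal_apply x q
      have h2 : pull lam q' = pull (lamI i) q := hx q q' hc
      have h3 : ι q' = a := Subtype.ext (by
        rw [hn' q q' hc, hq, ι.apply_symm_apply, ha]; group)
      simpa [hpull, h3, hq] using h2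
    · rintro ⟨n, hn⟩
      obtain ⟨w, hw, hwn⟩ := L.exists_mem_T n.2
      set n' : L.T₁ := ⟨w, L.K_le_T₁ hw⟩ * n with hn'def
      have hn'T : (n' : G) ∈ L.T := hwn
      have hn' : L.act n' (lab (lamI i)) = lab lam := by
        rw [hn'def, L.act_mul, hlamI, hn, L.act_of_mem_K _ hw]
      obtain ⟨x, hx⟩ := hTF _ hn'T
      have hmu : ∀ b : L.D, (n' : G)⁻¹ * b * n' ∈ L.D := fun b => by
        have := (Subgroup.mem_normalizer_iff.1 (Subgroup.inv_mem _ hn'T.1) (b : G)).1 b.2
        rwa [inv_inv] at this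
      set mu : L.D →* ℂˣ := (lamI i).comp
        { toFun := fun b => ⟨(n' : G)⁻¹ * b * n', hmu b⟩
          map_one' := Subtype.ext (by simp)
          map_mul' := fun a b => Subtype.ext (by simp [mul_assoc]) } with hmudef
      have hlm : mu = lam := hinj ((hact n' hn'T _ mu fun a a' ha => by
        rw [hmudef, MonoidHom.comp_apply]
        exact congrArg (lamI i) (Subtype.ext ha.symm)).symm.trans hn')
      refine (Subtype.ext ?_ : η i = h.indIrr (hpull1 _ hl)).symm
      refine h.ind_eq_of_conj (x := x) fun q q' hq => ?_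
      rw [hpull, ← hlm]
      show mu (ι q') = lamI i (ι q)
      rw [hmudef, MonoidHom.comp_apply]
      refine congrArg (lamI i) (Subtype.ext ?_)
      show (n' : G)⁻¹ * (ι q' : G) * n' = ι q
      rw [hx q q' hq]; group
  have hηinj : Function.Injective η := by
    intro i j hij
    obtain ⟨n, hn⟩ := (key _ (hne i) j).1 hij
    rw [hlamI] at hn
    exact ((R.act_eq n j i).1 hn).1.symm
  have hcover : ∀ lam : L.D →* ℂˣ, lam ≠ 1 → ∃ n i, L.act n (R.ξ i) = lab lam := by
    intro lam hl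
    rcases R.cover _ (hbij.1 (Set.mem_univ lam)) with h0 | ⟨n, i, hi⟩
    · exact absurd (hinj (h0.trans h1.symm)) hl
    · exact ⟨n, i, hi.symm⟩
  refine ⟨η, hηinj, fun i => h.relevant_indIrr _, fun χ hχ => ?_, fun v f hf => ?_⟩
  · obtain ⟨mu, hmu, rfl⟩ := h.exists_eq_ind hχ
    set lam : L.D →* ℂˣ := mu.comp ι.symm.toMonoidHom
    have hp' : pull lam = mu := MonoidHom.ext fun q => by simp [hpull, lam]
    have hl : lam ≠ 1 := fun he => hmu (by rw [← hp', he]; exact MonoidHom.ext fun q => rfl)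
    obtain ⟨n, i, hi⟩ := hcover lam hl
    refine ⟨i, ((key lam hl i).2 ⟨n, hi⟩).symm.trans (Subtype.ext ?_)⟩
    show indFun Q _ = indFun Q _
    rw [hp']
  · haveI : Finite (Q →* ℂˣ) := Homo949.finite_dual h.comm
    letI : Fintype (Q →* ℂˣ) := Fintype.ofFinite _
    rw [← Finset.add_sum_erase _ _ (Finset.mem_univ (1 : L.D →* ℂˣ)), h1, MonoidHom.one_apply,
      Units.val_one, one_mul]
    congr 1
    have hfib : ∀ lam ∈ Finset.univ.erase (1 : L.D →* ℂˣ), (lam (ι v) : ℂ) * f (lab lam) =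
        ∑ i, if (η i : F → ℂ) = indFun Q (fun q => (pull lam q : ℂ)) then
          (lam (ι v) : ℂ) * f (R.ξ i) else 0 := by
      intro lam hlam
      have hl := Finset.ne_of_mem_erase hlam
      obtain ⟨n, i, hi⟩ := hcover lam hl
      have hei := (key lam hl i).2 ⟨n, hi⟩
      rw [Finset.sum_eq_single i]
      · rw [if_pos (show (η i : F → ℂ) = indFun Q (fun q => (pull lam q : ℂ)) from
          congrArg Subtype.val hei.symm), ← hi, hf]
      · intro j _ hj
        rw [if_neg]
        intro he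
        exact hj (hηinj ((Subtype.ext he : η j = h.indIrr (hpull1 _ hl)).trans hei))
      · exact fun h0 => absurd (Finset.mem_univ _) h0
    rw [Finset.sum_congr rfl hfib, Finset.sum_comm]
    refine Finset.sum_congr rfl fun i _ => ?_
    rw [h.apply_eq_sum (h.relevant_indIrr (hpull1 _ (hne i)) : FrobKernelChar.Relevant Q (η i : F → ℂ)) v,
      Finset.sum_mul, Finset.sum_filter]
    let S : (L.D →* ℂˣ) ≃ (Q →* ℂˣ) :=
      { toFun := pull
        invFun := fun mu => mu.comp ι.symm.toMonoidHom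
        left_inv := fun lam => MonoidHom.ext fun x => by simp [hpull]
        right_inv := fun mu => MonoidHom.ext fun x => by simp [hpull] }
    rw [← Fintype.sum_equiv S (fun lam : L.D →* ℂˣ =>
      if (η i : F → ℂ) = indFun Q (fun q => (pull lam q : ℂ)) then
        (lam (ι v) : ℂ) * f (R.ξ i) else 0) _ fun lam => rfl]
    refine Finset.sum_erase _ ?_
    rw [if_neg]
    intro he
    exact h.ne_ind_one (h.relevant_indIrr (hpull1 _ (hne i))) he

/-- The perfect isometry. -/
theorem exists_perfect (h : Frob p Q L.inertia) (hQ : Nat.card Q = Nat.card L.D) :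
    ∃ (I : IrrCharacter F → IrrCharacter G) (ε : IrrCharacter F → ℤ),
      IsPerfectIsometry p M (Set.univ : Set (IrrCharacter F)) B I ε ∧
        ∀ χ χ' : IrrCharacter F, FrobKernelChar.Relevant Q (χ : F → ℂ) →
          FrobKernelChar.Relevant Q (χ' : F → ℂ) → ε χ = ε χ' := by
  haveI := h.normal
  haveI := h.cyc
  haveI := L.hcyc
  obtain ⟨R⟩ := L.exists_reps
  set ι : Q ≃* L.D := mulEquivOfCyclicCardEq hQ
  haveI : Finite (L.D →* ℂˣ) := Homo949.finite_dual fun a b =>
    (IsMulCommutative.is_comm (M := L.D)).comm a b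
  letI : Fintype (L.D →* ℂˣ) := Fintype.ofFinite _
  obtain ⟨lab, h1, hbij, hact, hker⟩ := exists_labelling L R
  obtain ⟨η, hηinj, hηrel, hηsurj, hηsum⟩ := exists_relevant_equiv L R h ι h1 hbij hact
  -- the lattice
  have hcount : R.m + L.inertia = (members B).card := by
    have := R.blockRank_add
    rw [L.blockRank_eq] at this
    rw [← card_members]
    omega
  obtain ⟨ψ, σ, δ, hψ, hσ, hδ, hout, hin⟩ := R.lattice.2 (by rw [← hcount]; push_cast; exact le_rfl)
  have hσσ : (σ : ℂ) * σ = 1 := by rcases hσ with rfl | rfl <;> norm_num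
  set Out := {z : { χ // χ ∈ members B } // z ∉ Set.range ψ}
  have hδδ : ∀ z : Out, (δ z.1 : ℂ) * δ z.1 = 1 := fun z => by
    rcases hδ z.1 z.2 with h0 | h0 <;> simp [h0]
  have hOut : Fintype.card Out = L.inertia := by
    have h2 := Fintype.card_subtype_compl (fun z : { χ // χ ∈ members B } => z ∈ Set.range ψ)
    rw [Fintype.card_coe, show Fintype.card {z : { χ // χ ∈ members B } // z ∈ Set.range ψ} = R.m
      from (Fintype.card_congr (Equiv.ofInjective ψ hψ).symm).trans (Fintype.card_fin _)] at h2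
    rw [h2]; omega
  -- the irrelevant characters
  set Irr0 := {χ : IrrCharacter F // ¬ FrobKernelChar.Relevant Q (χ : F → ℂ)}
  obtain ⟨E⟩ : Nonempty (Irr0 ≃ Out) := ⟨Fintype.equivOfCardEq (by
    rw [hOut, Fintype.card_subtype]
    refine Eq.trans (congrArg Finset.card ?_) h.card_irrelevant
    ext χ
    simp [FrobKernelChar.mem_relSet])⟩
  let eR : Fin R.m ≃ {χ : IrrCharacter F // FrobKernelChar.Relevant Q (χ : F → ℂ)} :=
    Equiv.ofBijective (fun i => ⟨η i, hηrel i⟩)
      ⟨fun i j hij => hηinj (congrArg Subtype.val hij), fun χ => by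
        obtain ⟨i, hi⟩ := hηsurj χ.1 χ.2
        exact ⟨i, Subtype.ext hi⟩⟩
  set I : IrrCharacter F → IrrCharacter G := fun χ =>
    if hχ : FrobKernelChar.Relevant Q (χ : F → ℂ) then (ψ (eR.symm ⟨χ, hχ⟩)).1
      else (E ⟨χ, hχ⟩).1.1 with hI
  set ε : IrrCharacter F → ℤ := fun χ =>
    if hχ : FrobKernelChar.Relevant Q (χ : F → ℂ) then -σ else δ (E ⟨χ, hχ⟩).1 with hε
  refine ⟨I, ε, ⟨⟨fun χ _ => ?_, fun a _ b _ hab => ?_, fun χ hχ => ?_⟩, fun χ _ => ?_, ?_⟩,
    fun χ χ' hχ hχ' => ?_⟩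
  · simp only [hI]
    split_ifs
    · exact mem_members.1 (ψ _).2
    · exact mem_members.1 (E _).1.2
  · simp only [hI] at hab
    by_cases ha : FrobKernelChar.Relevant Q (a : F → ℂ) <;>
      by_cases hb : FrobKernelChar.Relevant Q (b : F → ℂ)
    · rw [dif_pos ha, dif_pos hb] at hab
      exact congrArg Subtype.val (eR.symm.injective (hψ (Subtype.ext hab)))
    · rw [dif_pos ha, dif_neg hb] at hab
      exact absurd ⟨_, Subtype.ext hab⟩ (E ⟨b, hb⟩).2
    · rw [dif_neg ha, dif_pos hb] at hab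
      exact absurd ⟨_, Subtype.ext hab.symm⟩ (E ⟨a, ha⟩).2
    · rw [dif_neg ha, dif_neg hb] at hab
      exact congrArg Subtype.val (E.injective (Subtype.ext (Subtype.ext hab)))
  · by_cases hz : (⟨χ, mem_members.2 hχ⟩ : { χ // χ ∈ members B }) ∈ Set.range ψ
    · obtain ⟨i, hi⟩ := hz
      refine ⟨(eR i).1, trivial, ?_⟩
      simp only [hI]
      rw [dif_pos (eR i).2, Subtype.coe_eta, eR.symm_apply_apply, hi]
    · refine ⟨(E.symm ⟨_, hz⟩).1, trivial, ?_⟩
      simp only [hI]
      rw [dif_neg (E.symm ⟨_, hz⟩).2, Subtype.coe_eta, E.apply_symm_apply]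
  · simp only [hε]
    split_ifs
    · rcases hσ with rfl | rfl <;> simp
    · exact hδ _ (E _).2
  swap
  · simp only [hε]; rw [dif_pos hχ, dif_pos hχ']
  -- the kernel
  intro x y
  set A : (Out → ℂ) → ℂ := fun cf => ∑ z : Out, cf z * (z.1.1 : G → ℂ) x with hA
  have hμ : signedBijectionKernel (Set.univ : Set (IrrCharacter F)) I ε x y =
      ∑ i, -(σ : ℂ) * (η i : F → ℂ) y * ((ψ i).1 : G → ℂ) x +
        A (fun z => (δ z.1 : ℂ) * ((E.symm z).1 : F → ℂ) y) := by
    rw [signedBijectionKernel, finsum_mem_univ, finsum_eq_sum_of_fintype,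
      ← Fintype.sum_subtype_add_sum_subtype
        (fun χ : IrrCharacter F => FrobKernelChar.Relevant Q (χ : F → ℂ))]
    congr 1
    · refine (Fintype.sum_equiv eR _ _ fun i => ?_).symm
      show _ = ((ε (eR i).1 : ℤ) : ℂ) * (I (eR i).1 : G → ℂ) x * ((eR i).1 : F → ℂ) y
      simp only [hI, hε]
      rw [dif_pos (eR i).2, dif_pos (eR i).2, Subtype.coe_eta, eR.symm_apply_apply,
        show ((eR i).1 : IrrCharacter F) = η i from rfl]
      push_cast
      ring
    · refine Fintype.sum_equiv E _ _ fun χ => ?_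
      simp only [hI, hε]
      rw [dif_neg χ.2, dif_neg χ.2, E.symm_apply_apply]
      ring
  have hsplit : ∀ i (f : IrrCharacter G → ℂ), ∑ χ ∈ members B, (R.c i χ : ℂ) * f χ =
      (σ : ℂ) * f (ψ i).1 + ∑ z : Out, (δ z.1 : ℂ) * f z.1.1 := by
    intro i f
    rw [← Finset.sum_coe_sort (members B),
      ← Fintype.sum_subtype_add_sum_subtype (fun z : { χ // χ ∈ members B } => z ∈ Set.range ψ)]
    congr 1
    · refine (Finset.sum_congr (Finset.ext fun _ => by simp) fun _ _ => rfl).trans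
        ((Fintype.sum_equiv (Equiv.ofInjective ψ hψ)
          (fun k => (R.c i (ψ k).1 : ℂ) * f (ψ k).1) (fun z => (R.c i z.1.1 : ℂ) * f z.1.1)
          fun k => rfl).symm.trans ?_)
      rw [Finset.sum_eq_single i]
      · rw [hin, if_pos rfl]
      · intro k _ hk; rw [hin, if_neg hk, Int.cast_zero, zero_mul]
      · simp
    · exact Finset.sum_congr rfl fun z _ => by rw [hout i z.1 z.2]
  have htheta : ∀ i, L.theta (R.w i) x =
      (σ : ℂ) * ((ψ i).1 : G → ℂ) x + A (fun z => (δ z.1 : ℂ)) := fun i => by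
    rw [R.theta_eq, hsplit i fun χ => (χ : G → ℂ) x]
  -- combinations orthogonal to the differences
  have hvan : ∀ (b : Fin R.m → ℂ) (cf : Out → ℂ),
      (∀ i, b i * σ + ∑ z, cf z * δ z.1 = 0) →
      (p ∣ orderOf x → ∑ i, b i * ((ψ i).1 : G → ℂ) x + A cf = 0) ∧
        ((∀ i, b i ∈ lRing hM) → (∀ z, cf z ∈ lRing hM) →
          (∑ i, b i * ((ψ i).1 : G → ℂ) x + A cf) /
            (Nat.card (Subgroup.centralizer ({x} : Set G)) : ℂ) ∈ lRing hM) := by
    intro b cf hb
    set a : IrrCharacter G → ℂ := fun χ => ∑ i, (if (ψ i).1 = χ then b i else 0) +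
      ∑ z : Out, if z.1.1 = χ then cf z else 0 with ha
    have hexp : ∀ f : IrrCharacter G → ℂ, ∑ χ ∈ members B, a χ * f χ =
        ∑ i, b i * f (ψ i).1 + ∑ z : Out, cf z * f z.1.1 := by
      intro f
      simp only [ha, add_mul, Finset.sum_mul, ite_mul, zero_mul, Finset.sum_add_distrib]
      congr 1
      · rw [Finset.sum_comm]
        exact Finset.sum_congr rfl fun i _ => by rw [Finset.sum_ite_eq, if_pos (ψ i).2]
      · rw [Finset.sum_comm]
        exact Finset.sum_congr rfl fun z _ => by rw [Finset.sum_ite_eq, if_pos z.1.2]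
    have horth : ∀ i, ∑ χ ∈ members B, a χ * R.C i χ = 0 := by
      intro i
      rw [hexp, ← hb i]
      congr 1
      · rw [Finset.sum_eq_single i]
        · rw [← R.c_cast, hin, if_pos rfl]
        · intro k _ hk; rw [← R.c_cast, hin, if_neg hk, Int.cast_zero, mul_zero]
        · simp
      · exact Finset.sum_congr rfl fun z _ => by rw [← R.c_cast, hout i z.1 z.2]
    have hv : ∀ g : G, p ∣ orderOf g → ∑ χ ∈ members B, a χ * (χ : G → ℂ) g = 0 :=
      fun g hg => R.vanish_of_orth a horth hg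
    refine ⟨fun hx => (hexp fun χ => (χ : G → ℂ) x).symm.trans (hv x hx), fun hbl hcl => ?_⟩
    rw [show ∑ i, b i * ((ψ i).1 : G → ℂ) x + A cf = ∑ χ ∈ members B, a χ * (χ : G → ℂ) x from
      (hexp fun χ => (χ : G → ℂ) x).symm]
    refine div_centralizer_mem hM a _ (fun χ _ => (lRing hM).add_mem
      ((lRing hM).sum_mem fun i _ => ?_) ((lRing hM).sum_mem fun z _ => ?_)) hv x
    · split_ifs; exacts [hbl i, (lRing hM).zero_mem]
    · split_ifs; exacts [hcl z, (lRing hM).zero_mem]
  -- integrality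
  have hint : ∀ (χ : IrrCharacter F) (g : F), (χ : F → ℂ) g ∈ lRing hM := fun χ g =>
    isIntegral_mem_lRing hM (KGV.char_isIntegral (irr_isCharacter χ) g)
  have hintG : ∀ (χ : IrrCharacter G), (χ : G → ℂ) x ∈ lRing hM := fun χ =>
    isIntegral_mem_lRing hM (KGV.char_isIntegral (irr_isCharacter χ) x)
  rw [hμ]
  set J := ∑ i, -(σ : ℂ) * (η i : F → ℂ) y * ((ψ i).1 : G → ℂ) x +
    A (fun z => (δ z.1 : ℂ) * ((E.symm z).1 : F → ℂ) y) with hJ
  have hJint : J ∈ lRing hM := (lRing hM).add_mem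
    ((lRing hM).sum_mem fun i _ => (lRing hM).mul_mem ((lRing hM).mul_mem
      ((lRing hM).neg_mem (intCast_mem _ _)) (hint _ _)) (hintG _))
    ((lRing hM).sum_mem fun z _ => (lRing hM).mul_mem ((lRing hM).mul_mem (intCast_mem _ _)
      (hint _ _)) (hintG _))
  by_cases hyQ : y ∈ Q
  swap
  · -- off the kernel
    have hrel0 : ∀ χ : IrrCharacter F, FrobKernelChar.Relevant Q (χ : F → ℂ) → (χ : F → ℂ) y = 0 :=
      fun χ hχ => FrobKernelChar.vanish_off h.free χ.2 hχ hyQ
    have hcol : ∑ χ : Irr0, (χ.1 : F → ℂ) y = 0 := by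
      have hy1 : y ≠ 1 := fun h0 => hyQ (h0 ▸ Q.one_mem)
      have h2 := sum_degree_mul_irr (G := F) y
      rw [if_neg hy1, ← Fintype.sum_subtype_add_sum_subtype
        (fun χ : IrrCharacter F => FrobKernelChar.Relevant Q (χ : F → ℂ)),
        Finset.sum_eq_zero (fun χ _ => by rw [hrel0 χ.1 χ.2, mul_zero]), zero_add] at h2
      rw [← h2]
      exact Finset.sum_congr rfl fun χ _ => by rw [h.degree_one χ.2, one_mul]
    obtain ⟨hv1, hv2⟩ := hvan (fun i => -(σ : ℂ) * (η i : F → ℂ) y)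
      (fun z => (δ z.1 : ℂ) * ((E.symm z).1 : F → ℂ) y) fun i => by
        rw [hrel0 _ (hηrel i), mul_zero, zero_mul, zero_add, ← hcol]
        refine Fintype.sum_equiv E.symm _ _ fun z => ?_
        rw [mul_right_comm, hδδ, one_mul]
    have hyreg := h.regular_of_notMem hyQ
    refine ⟨hv2 (fun i => (lRing hM).mul_mem ((lRing hM).neg_mem (intCast_mem _ _)) (hint _ _))
        (fun z => (lRing hM).mul_mem (intCast_mem _ _) (hint _ _)),
      inv_natCast_mul_mem hM (fun hd => h.not_dvd (hd.trans (h.card_centralizer_dvd hyQ))) hJint, ?_⟩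
    by_cases hx : p ∣ orderOf x
    · exact Or.inr (hv1 hx)
    · exact Or.inl (iff_of_true hx hyreg)
  -- on the kernel the linear characters are trivial
  have hlin : ∀ z : Out, ((E.symm z).1 : F → ℂ) y = 1 := fun z => by
    rw [FrobKernelChar.eq_of_not_relevant (E.symm z).2 hyQ, h.degree_one (E.symm z).2]
  have hJ' : J = ∑ i, -(σ : ℂ) * (η i : F → ℂ) y * ((ψ i).1 : G → ℂ) x +
      A (fun z => (δ z.1 : ℂ)) := by
    rw [hJ]; simp only [hlin, mul_one]
  by_cases hy1 : y = 1
  · subst hy1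
    have hdeg : ∀ i, (η i : F → ℂ) 1 = (L.inertia : ℂ) := by
      intro i
      obtain ⟨mu, hmu, he⟩ := h.exists_eq_ind (hηrel i)
      rw [he, show (h.indIrr hmu : F → ℂ) 1 = indFun Q (fun q => (mu q : ℂ)) 1 from rfl,
        Induction.indFun_one_apply, h.index, map_one, Units.val_one, mul_one]
    obtain ⟨hv1, hv2⟩ := hvan (fun i => -(σ : ℂ) * (η i : F → ℂ) 1) (fun z => (δ z.1 : ℂ)) fun i => by
      rw [hdeg, Finset.sum_congr rfl fun z _ => hδδ z, Finset.sum_const, Finset.card_univ, hOut,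
        nsmul_one]
      linear_combination -(L.inertia : ℂ) * hσσ
    have hyreg : ¬ p ∣ orderOf (1 : F) := by rw [orderOf_one]; exact hM.1.not_dvd_one
    rw [hJ']
    refine ⟨hv2 (fun i => (lRing hM).mul_mem ((lRing hM).neg_mem (intCast_mem _ _)) (hint _ _))
      (fun z => intCast_mem _ _), ?_, ?_⟩
    · by_cases hx : p ∣ orderOf x
      · rw [hv1 hx, zero_div]; exact (lRing hM).zero_mem
      have hrel : ∀ i, -(σ : ℂ) * ((ψ i).1 : G → ℂ) x = A (fun z => (δ z.1 : ℂ)) := fun i => by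
        have h2 := htheta i
        rw [R.theta_eq, R.theta_regular i hx] at h2
        linear_combination h2
      rw [Finset.sum_congr rfl fun i _ => show -(σ : ℂ) * (η i : F → ℂ) 1 * ((ψ i).1 : G → ℂ) x =
          (L.inertia : ℂ) * A (fun z => (δ z.1 : ℂ)) by
            rw [hdeg, mul_right_comm, hrel i]; ring,
        Finset.sum_const, Finset.card_univ, Fintype.card_fin, nsmul_eq_mul,
        show Subgroup.centralizer ({(1 : F)} : Set F) = ⊤ from eq_top_iff.2 fun g _ =>
          Subgroup.mem_centralizer_singleton_iff.2 (by simp),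
        Subgroup.card_top, ← Q.card_mul_index, h.index, hQ, Nat.cast_mul]
      have hn : (Nat.card L.D : ℂ) = (R.m : ℂ) * L.inertia + 1 := by exact_mod_cast R.card_D
      rw [show (R.m : ℂ) * ((L.inertia : ℂ) * A (fun z => (δ z.1 : ℂ))) + A (fun z => (δ z.1 : ℂ)) =
          (Nat.card L.D : ℂ) * A (fun z => (δ z.1 : ℂ)) by rw [hn]; ring,
        mul_div_mul_left _ _ (Nat.cast_ne_zero.2 Nat.card_pos.ne')]
      exact inv_natCast_mul_mem hM h.not_dvd
        ((lRing hM).sum_mem fun z _ => (lRing hM).mul_mem (intCast_mem _ _) (hintG _))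
    · by_cases hx : p ∣ orderOf x
      · exact Or.inr (hv1 hx)
      · exact Or.inl (iff_of_true hx hyreg)
  -- the other elements of the kernel
  set v : L.D := ι ⟨y, hyQ⟩ with hv
  have hsum0 : ∑ i, (η i : F → ℂ) y = -1 := by
    have h2 := hηsum ⟨y, hyQ⟩ (fun _ => 1) fun _ _ => rfl
    simp only [mul_one] at h2
    rw [Homo949.sum_hom_eval (fun a b => (IsMulCommutative.is_comm (M := L.D)).comm a b),
      if_neg (fun h0 => hy1 (by
        have h3 := congrArg ι.symm h0
        rw [ι.symm_apply_apply, map_one] at h3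
        exact congrArg Subtype.val h3))] at h2
    linear_combination -h2
  set f : IrrCharacter L.K → G → ℂ := fun ξ => indFun L.K (ξ : L.K → ℂ) with hf
  have hfinv : ∀ (n : L.T₁) (ξ : IrrCharacter L.K), f (L.act n ξ) x = f ξ x := fun n ξ =>
    indFun_twist (L.T₁_conj_iff n) (ξ : L.K → ℂ) x
  have hth : ∀ i, L.theta (R.w i) x = f R.ξ₀ x - f (R.ξ i) x := by
    intro i
    have h2 : L.psi (R.w i) = fun k => ∑ ξ ∈ members L.blk, R.w i ξ * (ξ : L.K → ℂ) k := rfl
    rw [Data.theta, h2, indFun_sum]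
    simp [Data.Reps.w, hf, sub_mul, Finset.sum_sub_distrib, ite_mul,
      mem_members.2 R.mem₀, mem_members.2 (R.mem i)]
  have hν : J = indFun L.K (fun k => ∑ lam : L.D →* ℂˣ, (lam v : ℂ) * (lab lam : L.K → ℂ) k) x := by
    rw [indFun_sum, show ∑ lam : L.D →* ℂˣ, (lam v : ℂ) * indFun L.K (lab lam : L.K → ℂ) x =
      f R.ξ₀ x + ∑ i, (η i : F → ℂ) y * f (R.ξ i) x from
        hηsum ⟨y, hyQ⟩ (fun ξ => f ξ x) hfinv, hJ']
    have h3 : ∑ i, (η i : F → ℂ) y * f (R.ξ i) x =
        ∑ i, (η i : F → ℂ) y * f R.ξ₀ x - ∑ i, (η i : F → ℂ) y * L.theta (R.w i) x := by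
      rw [← Finset.sum_sub_distrib]
      exact Finset.sum_congr rfl fun i _ => by rw [hth]; ring
    have h4 : ∑ i, (η i : F → ℂ) y * L.theta (R.w i) x =
        ∑ i, (η i : F → ℂ) y * ((σ : ℂ) * ((ψ i).1 : G → ℂ) x) +
          (∑ i, (η i : F → ℂ) y) * A (fun z => (δ z.1 : ℂ)) := by
      rw [Finset.sum_mul, ← Finset.sum_add_distrib]
      exact Finset.sum_congr rfl fun i _ => by rw [htheta]; ring
    rw [h3, h4, ← Finset.sum_mul, hsum0]
    rw [Finset.sum_congr rfl fun i _ => show -(σ : ℂ) * (η i : F → ℂ) y * ((ψ i).1 : G → ℂ) x =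
      -((η i : F → ℂ) y * ((σ : ℂ) * ((ψ i).1 : G → ℂ) x)) by ring, Finset.sum_neg_distrib]
    ring
  have hcl : IsClassFunction L.K
      (fun k => ∑ lam : L.D →* ℂˣ, (lam v : ℂ) * (lab lam : L.K → ℂ) k) := fun a b =>
    Finset.sum_congr rfl fun lam _ => by rw [irr_isClassFunction (lab lam) a b]
  have hyp := h.dvd_orderOf hyQ hy1
  refine ⟨?_, ?_, ?_⟩
  · rw [hν]; exact indFun_div_mem hM L.K hcl (fun z => (hker v z).1) x
  · rw [hν, h.centralizer_eq hyQ hy1, hQ]
    exact indFun_div_natCast_mem hM L.K hcl (fun z => (hker v z).2) x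
  · by_cases hx : p ∣ orderOf x
    · exact Or.inl (iff_of_false (fun h' => h' hx) fun h' => h' hyp)
    · refine Or.inr ?_
      rw [hJ', Finset.sum_congr rfl fun i _ => show -(σ : ℂ) * (η i : F → ℂ) y * ((ψ i).1 : G → ℂ) x =
        (η i : F → ℂ) y * A (fun z => (δ z.1 : ℂ)) by
          have h2 := htheta i
          rw [R.theta_eq, R.theta_regular i hx] at h2
          linear_combination (η i : F → ℂ) y * h2, ← Finset.sum_mul, hsum0]
      ring

end CfsgLib.CyclicIso
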