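import Cfsg.Agent.Lib.BPStar.Integrality
import Cfsg.Agent.Lib.Blocks12.Basic
import Cfsg.Agent.Lib.Characters.Induction

/-!
# Local divisibility by centraliser orders

A local combination of characters vanishing at the `p`-singular elements is divisible by the orders
of the centralisers. `p ^ d` times a member of a block of defect at most `d` is such a combination
on the regular elements. Induction keeps divisibility.
-/

set_option autoImplicit false
set_option linter.unusedSectionVars false

namespace CfsgLib.CyclicIso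

open Cfsg CfsgLib.Blocks CfsgLib.Characters CfsgLib.BrauerPairs
open scoped Classical ComplexConjugate

universe u

variable {p : ℕ} [Fact p.Prime] {M : Ideal AlgInt} [M.IsMaximal]
variable {G : Type u} [Group G] [Fintype G]

/-- A natural number prime to `p` is invertible in the local ring. -/
theorem inv_natCast_mul_mem (hM : IsPModular p M) {m : ℕ} (hm : ¬ p ∣ m) {z : ℂ}
    (hz : z ∈ lRing hM) : z / (m : ℂ) ∈ lRing hM := by
  rw [div_eq_mul_inv]
  exact (lRing hM).mul_mem hz (inv_natCast_mem_lRing hM hm)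

/-- The sum of a character over a `p`-subgroup of a centraliser, shifted by the element. -/
theorem sum_shift_mem (hM : IsPModular p M) (x : G)
    (R : Subgroup (Subgroup.centralizer ({x} : Set G))) (ψ : IrrCharacter G) :
    (∑ r : R, (ψ : G → ℂ) (x * ((r : Subgroup.centralizer ({x} : Set G)) : G))) / (Nat.card R : ℂ) ∈
      lRing hM := by
  have hxC : x ∈ Subgroup.centralizer ({x} : Set G) :=
    Subgroup.mem_centralizer_singleton_iff.2 rfl
  have hz : (⟨x, hxC⟩ : Subgroup.centralizer ({x} : Set G)) ∈ Subgroup.center _ :=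
    Subgroup.mem_center_iff.2 fun c => Subtype.ext (Subgroup.mem_centralizer_singleton_iff.1 c.2)
  set F : Subgroup.centralizer ({x} : Set G) → ℂ := fun c => (ψ : G → ℂ) (x * (c : G))
  have hcl : IsClassFunction (Subgroup.centralizer ({x} : Set G)) F := by
    intro c h
    have h1 : x * (h : G) = h * x := (Subgroup.mem_centralizer_singleton_iff.1 h.2).symm
    simp only [F, Subgroup.coe_mul, Subgroup.coe_inv]
    rw [show x * ((h : G) * c * (h : G)⁻¹) = (h : G) * (x * c) * (h : G)⁻¹ by
      rw [← mul_assoc, ← mul_assoc, h1, mul_assoc (h : G)]]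
    exact irr_isClassFunction ψ _ _
  have hsum : ∑ r : R, F r = ∑ η : IrrCharacter (Subgroup.centralizer ({x} : Set G)),
      classInner F (η : _ → ℂ) * ∑ r : R, (η : _ → ℂ) (r : Subgroup.centralizer ({x} : Set G)) := by
    simp only [Finset.mul_sum]
    rw [Finset.sum_comm]
    refine Finset.sum_congr rfl fun r _ => ?_
    conv_lhs => rw [classFunction_eq_sum hcl]
    simp [Finset.sum_apply]
  show (∑ r : R, F r) / _ ∈ _
  rw [hsum, Finset.sum_div]
  refine (lRing hM).sum_mem fun η _ => ?_
  obtain ⟨n, hn⟩ := SubsectionSq.exists_mult_res (C := Subgroup.centralizer ({x} : Set G)) ψ η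
  obtain ⟨m, hm⟩ := ClassCount.exists_mult η R
  have hη : ∑ r : R, (η : _ → ℂ) (r : Subgroup.centralizer ({x} : Set G)) =
      (Nat.card R : ℂ) * m := by
    rw [← hm]
    exact Fintype.sum_equiv (Equiv.inv _) _ _ fun r => by simp
  have key := SubsectionSq.classInner_shift (C := Subgroup.centralizer ({x} : Set G)) hz ψ η
  rw [hn] at key
  have hpow : ((η : Subgroup.centralizer ({x} : Set G) → ℂ) ⟨x, hxC⟩ /
      (η : Subgroup.centralizer ({x} : Set G) → ℂ) 1) ^ Nat.card G = 1 := by
    rw [← SubsectionSq.apply_central_pow η hz, show (⟨x, hxC⟩ :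
      Subgroup.centralizer ({x} : Set G)) ^ Nat.card G = 1 from Subtype.ext pow_card_eq_one',
      div_self (irr_one_ne_zero η)]
  rw [hη, show classInner F (η : _ → ℂ) = _ from key,
    mul_div_assoc, mul_div_cancel_left₀ _ (Nat.cast_ne_zero.2 Nat.card_pos.ne')]
  exact (lRing hM).mul_mem ((lRing hM).mul_mem
    (isIntegral_mem_lRing hM (IsIntegral.of_pow Nat.card_pos (hpow ▸ isIntegral_one)))
    (natCast_mem _ _)) (natCast_mem _ _)

/-- A local combination vanishing at the singular elements is divisible by centraliser orders. -/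
theorem div_centralizer_mem (hM : IsPModular p M) (a : IrrCharacter G → ℂ)
    (S : Finset (IrrCharacter G)) (ha : ∀ ψ ∈ S, a ψ ∈ lRing hM)
    (hv : ∀ g : G, p ∣ orderOf g → ∑ ψ ∈ S, a ψ * (ψ : G → ℂ) g = 0) (x : G) :
    (∑ ψ ∈ S, a ψ * (ψ : G → ℂ) x) / (Nat.card (Subgroup.centralizer ({x} : Set G)) : ℂ) ∈
      lRing hM := by
  by_cases hx : p ∣ orderOf x
  · rw [hv x hx, zero_div]; exact (lRing hM).zero_mem
  set R : Sylow p (Subgroup.centralizer ({x} : Set G)) := default
  have hsum : ∑ r : (R : Subgroup (Subgroup.centralizer ({x} : Set G))),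
      ∑ ψ ∈ S, a ψ * (ψ : G → ℂ) (x * ((r : Subgroup.centralizer ({x} : Set G)) : G)) =
      ∑ ψ ∈ S, a ψ * (ψ : G → ℂ) x := by
    rw [Finset.sum_eq_single 1]
    · simp
    · intro r _ hr
      refine hv _ ?_
      set z := ((r : Subgroup.centralizer ({x} : Set G)) : G) with hzdef
      obtain ⟨j, hj⟩ := IsPGroup.iff_orderOf.1 R.isPGroup' r
      have hzo : orderOf z = p ^ j := by rw [hzdef, Subgroup.orderOf_coe, Subgroup.orderOf_coe, hj]
      have hj0 : j ≠ 0 := by
        rintro rfl
        exact hr (orderOf_eq_one_iff.1 (by rw [hj, pow_zero]))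
      have hc : Commute x z :=
        (Subgroup.mem_centralizer_singleton_iff.1 (r : Subgroup.centralizer ({x} : Set G)).2).symm
      have hcop : (orderOf x).Coprime (orderOf z) := by
        rw [hzo]
        exact Nat.Coprime.pow_right j ((Nat.coprime_comm).1 (hM.1.coprime_iff_not_dvd.2 hx))
      rw [hc.orderOf_mul_eq_mul_orderOf_of_coprime hcop, hzo]
      exact dvd_mul_of_dvd_right (dvd_pow_self p hj0) _
    · exact fun h => absurd (Finset.mem_univ _) h
  have hidx : ¬ p ∣ (R : Subgroup (Subgroup.centralizer ({x} : Set G))).index := R.not_dvd_index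
  rw [← (R : Subgroup (Subgroup.centralizer ({x} : Set G))).card_mul_index, Nat.cast_mul,
    ← div_div, ← hsum, Finset.sum_comm, Finset.sum_div]
  refine inv_natCast_mul_mem hM hidx ((lRing hM).sum_mem fun ψ hψ => ?_)
  rw [← Finset.mul_sum, mul_div_assoc]
  exact (lRing hM).mul_mem (ha ψ hψ) (sum_shift_mem hM x _ ψ)

/-- A member of a block of defect at most `d`, times `p ^ d`, at a regular element. -/
theorem regular_div_mem (hM : IsPModular p M) {b : Set (IrrCharacter G)} (hb : IsPBlock M b)
    {η : IrrCharacter G} (hη : η ∈ b) {d : ℕ} (hd : blockDefect p b ≤ d) {s : G}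
    (hs : ¬ p ∣ orderOf s) :
    (p : ℂ) ^ d * (η : G → ℂ) s / (Nat.card (Subgroup.centralizer ({s} : Set G)) : ℂ) ∈
      lRing hM := by
  have h1 := Contribution.expand hM hb hη s
  rw [if_pos hs] at h1
  have h2 := div_centralizer_mem hM (fun φ => Contribution.contrib p (blockDefect p b) η φ)
    (Finset.univ.filter (· ∈ b)) (fun φ hφ => Contribution.contrib_mem hM hb η (Finset.mem_filter.1 hφ).2)
    (fun g hg => by rw [← Contribution.expand hM hb hη g, if_neg (not_not.2 hg)]) s
  rw [← h1] at h2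
  rw [← Nat.sub_add_cancel hd, pow_add, mul_assoc, mul_div_assoc]
  exact (lRing hM).mul_mem ((lRing hM).pow_mem (natCast_mem _ _) _) h2

/-- Induction as a sum over the conjugates lying in the subgroup. -/
theorem indFun_eq_sum_conj (H : Subgroup G) [Fintype H] (h : H → ℂ) (x : G) :
    indFun H h x = (Nat.card (Subgroup.centralizer ({x} : Set G)) : ℂ) *
      ∑ z ∈ Finset.univ.filter (fun z : H => IsConj x (z : G)), h z / (Nat.card H : ℂ) := by
  rw [Induction.indFun_apply, ← Finset.sum_div, ← mul_div_assoc, inv_mul_eq_div]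
  congr 1
  rw [Finset.mul_sum, ← Finset.sum_filter_of_ne (s := (Finset.univ : Finset G))
    (p := fun t : G => t⁻¹ * x * t ∈ H) (fun t _ hne => by
      by_contra hn; exact hne (Induction.extendByZero_notMem H h hn))]
  rw [← Finset.sum_fiberwise_of_maps_to (g := fun t : G => t⁻¹ * x * t)
    (t := Finset.univ.filter (fun g : G => g ∈ H ∧ IsConj x g)) (fun t ht => Finset.mem_filter.2
      ⟨Finset.mem_univ _, (Finset.mem_filter.1 ht).2, isConj_iff.2 ⟨t⁻¹, by group⟩⟩)]
  symm
  refine Finset.sum_bij (fun (z : H) _ => (z : G)) (fun z hz => ?_)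
    (fun a _ b _ hab => Subtype.ext hab) (fun g hg => ?_) fun z hz => ?_
  · exact Finset.mem_filter.2 ⟨Finset.mem_univ _, z.2, (Finset.mem_filter.1 hz).2⟩
  · obtain ⟨-, hgH, hc⟩ := Finset.mem_filter.1 hg
    exact ⟨⟨g, hgH⟩, Finset.mem_filter.2 ⟨Finset.mem_univ _, hc⟩, rfl⟩
  · obtain ⟨t₀, ht₀⟩ := isConj_iff.1 (Finset.mem_filter.1 hz).2
    rw [Finset.sum_congr rfl fun t ht => by
      rw [(Finset.mem_filter.1 ht).2, Induction.extendByZero_mem H h z.2], Finset.sum_const,
      nsmul_eq_mul]
    congr 1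
    rw [Nat.cast_inj, Nat.card_eq_fintype_card, ← Finset.card_univ]
    refine Finset.card_bij (fun (c : Subgroup.centralizer ({x} : Set G)) _ => (c : G) * t₀⁻¹)
      (fun c _ => ?_) (fun c _ c' _ hcc => Subtype.ext (mul_right_cancel hcc)) (fun t ht => ?_)
    · have hc := Subgroup.mem_centralizer_singleton_iff.1 c.2
      have e1 : ((c : G) * t₀⁻¹)⁻¹ * x * ((c : G) * t₀⁻¹) = (z : G) := by
        rw [← ht₀]
        calc _ = t₀ * ((c : G)⁻¹ * (x * c)) * t₀⁻¹ := by group
          _ = t₀ * x * t₀⁻¹ := by rw [← hc, inv_mul_cancel_left]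
      rw [Finset.mem_filter, Finset.mem_filter, e1]
      exact ⟨⟨Finset.mem_univ _, z.2⟩, rfl⟩
    · simp only [Finset.mem_filter, Finset.mem_univ, true_and] at ht
      refine ⟨⟨t * t₀, Subgroup.mem_centralizer_singleton_iff.2 ?_⟩, Finset.mem_univ _, by simp⟩
      calc t * t₀ * x = t * (t₀ * x * t₀⁻¹) * t₀ := by group
        _ = x * (t * t₀) := by rw [ht₀, ← ht.2]; group

/-- Induction keeps divisibility by centraliser orders. -/
theorem indFun_div_mem (hM : IsPModular p M) (H : Subgroup G) [Fintype H] {h : H → ℂ}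
    (hh : IsClassFunction H h)
    (hdiv : ∀ z : H, h z / (Nat.card (Subgroup.centralizer ({z} : Set H)) : ℂ) ∈ lRing hM) (x : G) :
    indFun H h x / (Nat.card (Subgroup.centralizer ({x} : Set G)) : ℂ) ∈ lRing hM := by
  rw [indFun_eq_sum_conj, mul_div_cancel_left₀ _ (Nat.cast_ne_zero.2 Nat.card_pos.ne'),
    ← Finset.sum_fiberwise (g := fun z : H => ConjClasses.mk z)]
  refine (lRing hM).sum_mem fun K _ => ?_
  rcases Finset.eq_empty_or_nonempty ((Finset.univ.filter fun z : H => IsConj x (z : G)).filter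
    fun z => ConjClasses.mk z = K) with he | ⟨z₀, hz₀⟩
  · rw [he, Finset.sum_empty]; exact (lRing hM).zero_mem
  obtain ⟨hz₀x, hz₀K⟩ := Finset.mem_filter.1 hz₀
  have heq : (Finset.univ.filter fun z : H => IsConj x (z : G)).filter
      (fun z => ConjClasses.mk z = K) = Finset.univ.filter fun z : H => IsConj z₀ z := by
    ext z
    simp only [Finset.mem_filter, Finset.mem_univ, true_and]
    rw [← hz₀K, ConjClasses.mk_eq_mk_iff_isConj]
    refine ⟨fun h' => h'.2.symm, fun h' => ⟨?_, h'.symm⟩⟩
    obtain ⟨c, hc⟩ := isConj_iff.1 h'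
    exact (Finset.mem_filter.1 hz₀x).2.trans (isConj_iff.2 ⟨(c : G), congrArg Subtype.val hc⟩)
  rw [heq, Finset.sum_congr rfl fun z hz => by
    rw [show h z = h z₀ by
      obtain ⟨c, hc⟩ := isConj_iff.1 (Finset.mem_filter.1 hz).2
      rw [← hc, hh z₀ c]], Finset.sum_const, nsmul_eq_mul]
  have hcard : (Finset.univ.filter fun z : H => IsConj z₀ z).card *
      Nat.card (Subgroup.centralizer ({z₀} : Set H)) = Nat.card H := by
    rw [← Fintype.card_subtype, ← Nat.card_eq_fintype_card, natCard_isConj, mul_comm,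
      Subgroup.card_mul_index]
  rw [← hcard, Nat.cast_mul]
  have hne : ((Finset.univ.filter fun z : H => IsConj z₀ z).card : ℂ) ≠ 0 :=
    Nat.cast_ne_zero.2 (Finset.card_ne_zero.2 ⟨z₀, Finset.mem_filter.2 ⟨Finset.mem_univ _, IsConj.refl _⟩⟩)
  rw [← mul_div_assoc, mul_div_mul_left _ _ hne]
  exact hdiv z₀

/-- Induction keeps divisibility by a number. -/
theorem indFun_div_natCast_mem (hM : IsPModular p M) (H : Subgroup G) [Fintype H] {h : H → ℂ}
    (hh : IsClassFunction H h) {n : ℕ} (hdiv : ∀ z : H, h z / (n : ℂ) ∈ lRing hM) (x : G) :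
    indFun H h x / (n : ℂ) ∈ lRing hM := by
  rw [indFun_eq_sum_conj, mul_div_assoc, Finset.sum_div, Finset.mul_sum,
    ← Finset.sum_fiberwise (g := fun z : H => ConjClasses.mk z)]
  refine (lRing hM).sum_mem fun K _ => ?_
  rcases Finset.eq_empty_or_nonempty ((Finset.univ.filter fun z : H => IsConj x (z : G)).filter
    fun z => ConjClasses.mk z = K) with he | ⟨z₀, hz₀⟩
  · rw [he, Finset.sum_empty]; exact (lRing hM).zero_mem
  obtain ⟨hz₀x, hz₀K⟩ := Finset.mem_filter.1 hz₀
  have hconj := (Finset.mem_filter.1 hz₀x).2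
  have heq : (Finset.univ.filter fun z : H => IsConj x (z : G)).filter
      (fun z => ConjClasses.mk z = K) = Finset.univ.filter fun z : H => IsConj z₀ z := by
    ext z
    simp only [Finset.mem_filter, Finset.mem_univ, true_and]
    rw [← hz₀K, ConjClasses.mk_eq_mk_iff_isConj]
    refine ⟨fun h' => h'.2.symm, fun h' => ⟨?_, h'.symm⟩⟩
    obtain ⟨c, hc⟩ := isConj_iff.1 h'
    exact hconj.trans (isConj_iff.2 ⟨(c : G), congrArg Subtype.val hc⟩)
  rw [heq, Finset.sum_congr rfl fun z hz => by
    rw [show h z = h z₀ by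
      obtain ⟨c, hc⟩ := isConj_iff.1 (Finset.mem_filter.1 hz).2
      rw [← hc, hh z₀ c]], Finset.sum_const, nsmul_eq_mul]
  -- the centraliser in `H` embeds in the one in `G`
  obtain ⟨t, ht⟩ := isConj_iff.1 hconj
  obtain ⟨q, hq⟩ : Nat.card (Subgroup.centralizer ({z₀} : Set H)) ∣
      Nat.card (Subgroup.centralizer ({x} : Set G)) := by
    let f : Subgroup.centralizer ({z₀} : Set H) →* Subgroup.centralizer ({x} : Set G) :=
      ((MulAut.conj t⁻¹).toMonoidHom.comp (H.subtype.comp (Subgroup.subtype _))).codRestrict _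
        fun c => Subgroup.mem_centralizer_singleton_iff.2 (by
          have hc := congrArg Subtype.val (Subgroup.mem_centralizer_singleton_iff.1 c.2)
          simp only [Subgroup.coe_mul] at hc
          show t⁻¹ * ((c : H) : G) * t⁻¹⁻¹ * x = x * (t⁻¹ * ((c : H) : G) * t⁻¹⁻¹)
          calc _ = t⁻¹ * (((c : H) : G) * (t * x * t⁻¹)) * t := by group
            _ = t⁻¹ * ((t * x * t⁻¹) * ((c : H) : G)) * t := by rw [ht, hc]
            _ = _ := by group)
    refine Subgroup.card_dvd_of_injective f fun a b hab => ?_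
    exact Subtype.ext (Subtype.ext ((MulAut.conj t⁻¹).injective (congrArg Subtype.val hab)))
  have hcard : (Finset.univ.filter fun z : H => IsConj z₀ z).card *
      Nat.card (Subgroup.centralizer ({z₀} : Set H)) = Nat.card H := by
    rw [← Fintype.card_subtype, ← Nat.card_eq_fintype_card, natCard_isConj, mul_comm,
      Subgroup.card_mul_index]
  have hne : ((Finset.univ.filter fun z : H => IsConj z₀ z).card : ℂ) ≠ 0 :=
    Nat.cast_ne_zero.2 (Finset.card_ne_zero.2 ⟨z₀, Finset.mem_filter.2 ⟨Finset.mem_univ _, IsConj.refl _⟩⟩)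
  have hne' : (Nat.card (Subgroup.centralizer ({z₀} : Set H)) : ℂ) ≠ 0 :=
    Nat.cast_ne_zero.2 Nat.card_pos.ne'
  have key : ∀ S : ℂ, S * ((Nat.card (Subgroup.centralizer ({x} : Set G)) : ℂ) *
      (h z₀ / (Nat.card H : ℂ) / (n : ℂ))) =
        S / ((Finset.univ.filter fun z : H => IsConj z₀ z).card : ℂ) *
          ((q : ℂ) * (h z₀ / (n : ℂ))) := by
    intro S
    rw [hq, ← hcard, Nat.cast_mul, Nat.cast_mul]
    field_simp
  rw [key, div_self hne, one_mul]
  exact (lRing hM).mul_mem (natCast_mem _ _) (hdiv z₀)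

end CfsgLib.CyclicIso
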